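import Cfsg.Agent.BC86.Palfy.Nums

/-!
A context admits at most one prime outside the abelian normal subgroup with a fixed vector, as
soon as the primitive part of `q ^ n - 1` divides the group order.
-/

namespace Cfsg.Agent.BC86.Palfy

open scoped commutatorElement IsMulCommutative
open Cfsg.Agent.NumberTheory
open Cfsg.Agent.Huppert69 (IsPairing)

variable {q : ℕ} [Fact q.Prime] {V : Type*} [AddCommGroup V] [Module (ZMod q) V] [Finite V]

/-- A map of primitive prime order fixing a non-zero vector is the identity. -/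
theorem eq_one_of_fixed_of_primitive {l : ℕ}
    (hl : IsPrimitivePrimeDivisor l q (Module.finrank (ZMod q) V))
    (x : Module.End (ZMod q) V) (hx : x ^ l = 1) {v : V} (hv : v ≠ 0) (hxv : x v = v) : x = 1 := by
  classical
  have : Fact l.Prime := ⟨hl.1⟩
  have hq2 := (Fact.out (p := q.Prime)).two_le
  set K := LinearMap.ker (x - 1) with hK
  have hKmem : ∀ u, u ∈ K ↔ x u = u := fun u => by
    rw [hK, LinearMap.mem_ker, LinearMap.sub_apply, Module.End.one_apply, sub_eq_zero]
  let e : Function.End V := fun u => x u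
  have he : ∀ (k : ℕ) (u : V), (e ^ k) u = (x ^ k) u := by
    intro k
    induction k with
    | zero => exact fun u => rfl
    | succ k ih =>
      intro u
      rw [pow_succ', pow_succ']
      show x ((e ^ k) u) = x ((x ^ k) u)
      rw [ih]
  have her : e ^ l ^ 1 = 1 := funext fun u => by rw [he, pow_one, hx]; rfl
  haveI : Fintype V := Fintype.ofFinite V
  haveI : Fintype e.fixedPoints := Fintype.ofFinite _
  have hm := Equiv.Perm.card_fixedPoints_modEq her
  simp only [← Nat.card_eq_fintype_card] at hm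
  have hfix : Nat.card e.fixedPoints = Nat.card K :=
    Nat.card_congr (Equiv.subtypeEquivRight fun u => (hKmem u).symm)
  rw [hfix, Module.natCard_eq_pow_finrank (K := ZMod q) (V := V),
    Module.natCard_eq_pow_finrank (K := ZMod q) (V := K), Nat.card_zmod] at hm
  set n := Module.finrank (ZMod q) V
  set j := Module.finrank (ZMod q) K with hj
  have hj0 : 0 < j := by
    rw [hj, Module.finrank_pos_iff]
    exact ⟨⟨v, (hKmem v).2 hxv⟩, 0, fun e => hv (congrArg Subtype.val e)⟩
  have hjn : j ≤ n := Submodule.finrank_le K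
  have hdj : l ∣ q ^ j - 1 := by
    have h1 : 1 ≡ q ^ n [MOD l] := (Nat.modEq_iff_dvd' (Nat.one_le_pow _ _ (by omega))).2 hl.2.1
    exact (Nat.modEq_iff_dvd' (Nat.one_le_pow _ _ (by omega))).1 (h1.trans hm)
  rcases hjn.lt_or_eq with hlt | heq
  · exact absurd hdj (hl.2.2 j hj0 hlt)
  · have hK' : K = ⊤ := Submodule.eq_top_of_finrank_eq heq
    exact LinearMap.ext fun u => (hKmem u).1 (hK' ▸ Submodule.mem_top)

variable {G : Type*} [Group G] [Finite G]
variable {ρ : G →* (V ≃ₗ[ZMod q] V)} {A B : Subgroup G} {s : ℕ}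
variable [Nontrivial V] [A.Normal] [IsMulCommutative A] [IsMulCommutative (Sec A B)]
  [IsMulCommutative (alg ρ A)]

namespace Ctx

variable (h : Ctx ρ A B s) [B.Normal]
include h

/-- The primes outside `A` are small when the section is full. -/
theorem le_of_full {d b t : ℕ} (hsA : s ∣ Nat.card A) (hW : Nat.card (Sec A B) = (s ^ b) ^ 2)
    (hfull : Nat.card (Sec A B) = Module.finrank (alg ρ A) V ^ 2)
    (hE : Nat.card (alg ρ A) = q ^ d) (ht : t.Prime) (htd : ¬ t ∣ d) {x : G} (hx : orderOf x = t)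
    (htA : ¬ t ∣ Nat.card A) : t ≠ s ∧ t ≤ s ^ b + 1 := by
  have hts : t ≠ s := fun e => htA (e ▸ hsA)
  have hxC := h.mem_centralizer_of_order hE ht htd hx
  refine ⟨hts, (h.prime_le_or_commute ht hts hW hx hxC).resolve_right fun hc => htA ?_⟩
  exact hx ▸ Subgroup.orderOf_dvd_natCard A (h.mem_of_commute_all hfull hxC hc)

/-- The square of the prime `2 ^ b + 1` does not divide the group order. -/
theorem not_sq_dvd {b l : ℕ} (hs : s = 2) (hl : l = 2 ^ b + 1) (hlp : l.Prime) (hb : 1 ≤ b)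
    (hC : Subgroup.centralizer (A : Set G) = ⊤)
    (hW : Nat.card (Sec A B) = (2 ^ b) ^ 2)
    (hfull : Nat.card (Sec A B) = Module.finrank (alg ρ A) V ^ 2)
    (hlA : ¬ l ∣ Nat.card A) : ¬ l ^ 2 ∣ Nat.card G := by
  classical
  intro hdvd
  subst hs
  have := Fact.mk hlp
  have : Fact (Nat.Prime 2) := ⟨Nat.prime_two⟩
  have h2b : 2 ≤ 2 ^ b := Nat.le_self_pow (by omega) 2
  set f : G →* MulAut (Sec A B) := secAct with hf
  have hker : f.ker = B := h.secAct_ker hC hfull
  haveI : Finite (MulAut (Sec A B)) :=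
    Finite.of_injective (fun g => (g : Sec A B → Sec A B)) DFunLike.coe_injective
  have hBcard : Nat.card B = (2 ^ b) ^ 2 * Nat.card A := by
    rw [Subgroup.card_eq_card_quotient_mul_card_subgroup (A.subgroupOf B),
      Nat.card_congr (Subgroup.subgroupOfEquivOfLe h.lt.le).toEquiv]
    exact congrArg (· * Nat.card A) hW
  have hlB : l.Coprime (Nat.card B) := by
    rw [hlp.coprime_iff_not_dvd, hBcard]
    intro hd
    rcases hlp.dvd_mul.1 hd with hd | hd
    · have := (Nat.prime_dvd_prime_iff_eq hlp Nat.prime_two).1 (hlp.dvd_of_dvd_pow (hlp.dvd_of_dvd_pow hd))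
      omega
    · exact hlA hd
  have hrange : l ^ 2 ∣ Nat.card f.range := by
    have e : Nat.card G = Nat.card f.range * Nat.card B := by
      rw [Subgroup.card_eq_card_quotient_mul_card_subgroup f.ker,
        Nat.card_congr (QuotientGroup.quotientKerEquivRange f).toEquiv, hker]
    exact (Nat.Coprime.pow_left 2 hlB).dvd_of_dvd_mul_right (e ▸ hdvd)
  obtain ⟨P, hP⟩ := Sylow.exists_subgroup_card_pow_prime (G := f.range) (p := l) (n := 2) hrange
  have hpres : ∀ g ∈ f.range, ∀ u v : Sec A B, h.pair (g u) (g v) = h.pair u v := by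
    rintro _ ⟨y, rfl⟩ u v
    exact h.pair_secAct (hC ▸ Subgroup.mem_top y) u v
  have hfix : ∀ g : P, orderOf g = l → ∀ w : Sec A B, (g : f.range).1 w = w → w = 1 := by
    intro g hg w hw
    have hg' : orderOf ((g : f.range) : MulAut (Sec A B)) = l := by
      rw [Subgroup.orderOf_coe, Subgroup.orderOf_coe, hg]
    obtain ⟨i, F, hi, hF, hcard, hdvd⟩ := h.isPairing.exists_moved (r := l) (by omega)
      ((g : f.range) : MulAut (Sec A B)) (hg' ▸ pow_orderOf_eq_one _)
      (fun e => by rw [e, orderOf_one] at hg'; exact hlp.one_lt.ne hg')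
      (hpres _ (g : f.range).2)
    have hib : i ≤ b := by
      have h1 : (2 ^ i) ^ 2 ≤ (2 ^ b) ^ 2 := hW ▸ Nat.le_of_dvd Nat.card_pos ⟨_, hcard.symm.trans (mul_comm _ _)⟩
      exact (Nat.pow_le_pow_iff_right (by norm_num)).1 ((Nat.pow_le_pow_iff_left two_ne_zero).1 h1)
    have hib' : i = b := by
      by_contra hne
      have hlt : 2 ^ i * 2 ≤ 2 ^ b := by
        rw [← pow_succ]; exact Nat.pow_le_pow_right two_pos (by omega)
      have h2i : 2 ≤ 2 ^ i := Nat.le_self_pow (by omega) 2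
      rw [show (2 ^ i) ^ 2 - 1 = (2 ^ i + 1) * (2 ^ i - 1) by rw [← Nat.sq_sub_sq, one_pow]] at hdvd
      rcases hlp.dvd_mul.1 hdvd with h' | h' <;>
      · have := Nat.le_of_dvd (by omega) h'
        omega
    subst hib'
    have h1 : Nat.card F = 1 := by
      refine Nat.eq_of_mul_eq_mul_right (show 0 < (2 ^ i) ^ 2 by positivity) ?_
      rw [hcard, one_mul, hW]
    have hwF := (hF w).2 hw
    rwa [Subgroup.card_eq_one.1 h1, Subgroup.mem_bot] at hwF
  obtain ⟨w, hw⟩ : ∃ w : Sec A B, w ≠ 1 := by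
    have : Nontrivial (Sec A B) := Finite.one_lt_card_iff_nontrivial.1 (by rw [hW]; nlinarith)
    exact exists_ne 1
  have hinj : Function.Injective fun g : P => (g : f.range).1 w := by
    intro g g' e
    by_contra hne
    have hz : (((g'⁻¹ * g : P)) : f.range).1 w = w := by
      show ((g' : f.range).1)⁻¹ ((g : f.range).1 w) = w
      rw [show (g : f.range).1 w = (g' : f.range).1 w from e]
      exact (g' : f.range).1.symm_apply_apply w
    set z := g'⁻¹ * g with hzdef
    have hz1 : z ≠ 1 := fun e' => hne ((inv_mul_eq_one.1 (hzdef ▸ e')).symm)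
    obtain ⟨k, -, hk⟩ := (Nat.dvd_prime_pow hlp).1 (hP ▸ orderOf_dvd_natCard z : orderOf z ∣ l ^ 2)
    rcases k with _ | k
    · rw [pow_zero, orderOf_eq_one_iff] at hk; exact hz1 hk
    have hzo : orderOf (z ^ l ^ k) = l := by
      rw [orderOf_pow' _ (pow_pos hlp.pos k).ne', hk,
        Nat.gcd_eq_right (Nat.pow_dvd_pow _ (Nat.le_succ k)), pow_succ',
        Nat.mul_div_cancel _ (pow_pos hlp.pos k)]
    have hzk : ∀ m : ℕ, (((z ^ m : P)) : f.range).1 w = w := by
      intro m
      induction m with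
      | zero => rfl
      | succ m ih =>
        rw [pow_succ]
        show ((z ^ m : P) : f.range).1 ((z : f.range).1 w) = w
        rw [hz, ih]
    exact hw (hfix _ hzo w (hzk _))
  have hle := Nat.card_le_card_of_injective _ hinj
  rw [hP, hW, hl] at hle
  nlinarith

/-- No two primes outside `A` have fixed vectors. -/
theorem false_of_fixed {t₁ t₂ : ℕ} (h12 : t₁ ≠ t₂) (ht₁ : t₁.Prime) (ht₂ : t₂.Prime)
    (hA₁ : ¬ t₁ ∣ Nat.card A) (hA₂ : ¬ t₂ ∣ Nat.card A)
    (hx₁ : ∃ x : G, orderOf x = t₁ ∧ ∃ v : V, v ≠ 0 ∧ ρ x v = v)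
    (hx₂ : ∃ x : G, orderOf x = t₂ ∧ ∃ v : V, v ≠ 0 ∧ ρ x v = v)
    (hprim : ∀ l e : ℕ, IsPrimitivePrimeDivisor l q (Module.finrank (ZMod q) V) →
      l ^ e ∣ q ^ Module.finrank (ZMod q) V - 1 → l ^ e ∣ Nat.card G) : False := by
  obtain ⟨d, m, b, hN, hE, hm⟩ := h.exists_nums
  have hq := (Fact.out (p := q.Prime)).two_le
  have hn : Module.finrank (ZMod q) V = d * m := by
    have h1 := hN.hV
    rw [Module.natCard_eq_pow_finrank (K := ZMod q), Nat.card_zmod] at h1
    exact Nat.pow_right_injective hq h1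
  have hs := h.prime.two_le
  have hsb : 2 ≤ s ^ b := le_trans hs (Nat.le_self_pow (by have := hN.hb; omega) s)
  have hle := hN.hle
  have hd := hN.hd
  have hm2 : 2 ≤ m := hsb.trans hle
  have hfull : s ^ b = m → Nat.card (Sec A B) = Module.finrank (alg ρ A) V ^ 2 := fun e => by
    rw [hm, hN.hW, e]
  have hmn : m ≤ d * m := Nat.le_mul_of_pos_left m (by omega)
  -- both primes equal to three is absurd
  have three : ∀ P : ℕ → Prop, P t₁ → P t₂ → (∀ t, P t → t = 3) → False := fun P h1 h2 hP =>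
    h12 ((hP _ h1).trans (hP _ h2).symm)
  by_cases hn2 : d * m = 2
  · obtain ⟨rfl, rfl, rfl, rfl, -⟩ := h.two_dim hN hn2
    have key : ∀ t, t.Prime → ¬ t ∣ Nat.card A → (∃ x : G, orderOf x = t) → t = 3 := by
      intro t ht htA ⟨x, hx⟩
      obtain ⟨h1, h2⟩ := h.le_of_full hN.hs hN.hW (hfull (by norm_num)) hE ht
        (fun e => ht.one_lt.ne' (Nat.dvd_one.1 e)) hx htA
      have := ht.two_le
      norm_num at h2
      omega
    obtain ⟨x, hx, -⟩ := hx₁
    obtain ⟨y, hy, -⟩ := hx₂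
    exact h12 ((key t₁ ht₁ hA₁ ⟨x, hx⟩).trans (key t₂ ht₂ hA₂ ⟨y, hy⟩).symm)
  by_cases h6 : q = 2 ∧ d * m = 6
  · obtain ⟨rfl, hdm⟩ := h6
    have hdle : d ≤ 6 := Nat.le_of_dvd (by norm_num) ⟨m, hdm.symm⟩
    have hsd : s ∣ 2 ^ d - 1 := hN.hs.trans hN.hA
    have hd2 : d = 2 ∧ s = 3 := by
      have hsm' : s ≤ m := le_trans (Nat.le_self_pow (by have := hN.hb; omega) s) hle
      interval_cases d
      · norm_num at hsd
        omega
      · norm_num at hsd
        exact ⟨rfl, (Nat.prime_dvd_prime_iff_eq h.prime Nat.prime_three).1 hsd⟩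
      · norm_num at hsd
        have := (Nat.prime_dvd_prime_iff_eq h.prime (by norm_num : Nat.Prime 7)).1 hsd
        omega
      all_goals omega
    obtain ⟨rfl, rfl⟩ := hd2
    obtain rfl : m = 3 := by omega
    have hb1 : b = 1 := by
      have h3 : 3 ^ b ≤ 3 ^ 1 := hle
      have := (Nat.pow_le_pow_iff_right (by norm_num)).1 h3
      have := hN.hb
      omega
    subst hb1
    have key : ∀ t, t.Prime → ¬ t ∣ Nat.card A → t ≠ 2 → (∃ x : G, orderOf x = t) → False := by
      intro t ht htA ht2 ⟨x, hx⟩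
      obtain ⟨h1, h2⟩ := h.le_of_full hN.hs hN.hW (hfull (by norm_num)) hE ht
        (fun e => ht2 ((Nat.prime_dvd_prime_iff_eq ht Nat.prime_two).1 e)) hx htA
      have := ht.two_le
      norm_num at h2
      interval_cases t <;> norm_num at ht <;> omega
    obtain ⟨x, hx, -⟩ := hx₁
    obtain ⟨y, hy, -⟩ := hx₂
    rcases ne_or_eq t₁ 2 with h2 | h2
    · exact key t₁ ht₁ hA₁ h2 ⟨x, hx⟩
    · exact key t₂ ht₂ hA₂ (fun e => h12 (h2.trans e.symm)) ⟨y, hy⟩
  obtain ⟨l, hl⟩ := exists_isPrimitivePrimeDivisor (a := q) (n := d * m) (by omega) (by omega) h6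
    (fun e => hn2 e.1)
  have hlG : l ∣ Nat.card G := by
    have := hprim l 1 (hn.symm ▸ hl) (by rw [pow_one, hn]; exact hl.2.1)
    rwa [pow_one] at this
  have hlb := h.primitive_bound hN hE hl hlG
  have hlt : d * m < l := hl.lt (by omega) (by omega)
  obtain rfl : d = 1 := by
    by_contra hne
    have : 2 * m ≤ d * m := Nat.mul_le_mul_right m (by omega)
    omega
  rw [one_mul] at hl hlt hn hn2
  have hsm : s ^ b = m := by omega
  have hlm : l = m + 1 := by omega
  have hmeven : Even m := by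
    rcases hl.1.eq_two_or_odd' with e | ⟨k, hk⟩
    · omega
    · exact ⟨k, by omega⟩
  have hs2 : s = 2 := by
    rw [← hsm] at hmeven
    exact ((Nat.prime_dvd_prime_iff_eq Nat.prime_two h.prime).1
      (Nat.prime_two.dvd_of_dvd_pow (even_iff_two_dvd.1 hmeven))).symm
  subst hs2
  have hC : Subgroup.centralizer (A : Set G) = ⊤ := h.centralizer_eq_top rfl hE
  have key : ∀ t, t.Prime → ¬ t ∣ Nat.card A → (∃ x : G, orderOf x = t ∧ ∃ v : V, v ≠ 0 ∧ ρ x v = v) →
      t ≠ 2 ∧ t ≤ m := by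
    intro t ht htA ⟨x, hx, v, hv, hxv⟩
    obtain ⟨h1, h2⟩ := h.le_of_full hN.hs hN.hW (hfull hsm) hE ht
      (fun e => ht.one_lt.ne' (Nat.dvd_one.1 e)) hx htA
    refine ⟨h1, ?_⟩
    by_contra hgt
    have htl : t = l := by omega
    have hx1 : lin ρ x = 1 := eq_one_of_fixed_of_primitive (hn.symm ▸ htl.symm ▸ hl) (lin ρ x)
      (by rw [← map_pow, ← hx, pow_orderOf_eq_one, map_one]) hv hxv
    rw [lin_injective h.toSetting (hx1.trans (map_one (lin ρ)).symm), orderOf_one] at hx
    exact ht.one_lt.ne hx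
  have hb2 : 2 ≤ b := by
    by_contra hb
    have : b = 1 := by have := hN.hb; omega
    subst this
    omega
  obtain ⟨b', rfl⟩ : ∃ b', b = b' + 1 := ⟨b - 1, by omega⟩
  rcases Nat.lt_or_ge b' 2 with hb' | hb'
  · -- dimension four
    have hm4 : m = 4 := by
      have : b' = 1 := by omega
      subst this
      omega
    refine three (fun t => t.Prime ∧ t ≠ 2 ∧ t ≤ 4) ⟨ht₁, hm4 ▸ key t₁ ht₁ hA₁ hx₁⟩
      ⟨ht₂, hm4 ▸ key t₂ ht₂ hA₂ hx₂⟩ fun t ⟨ht, ht2, ht4⟩ => ?_
    have := ht.two_le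
    interval_cases t <;> first | omega | norm_num at ht
  -- higher dimensions
  set c := 2 ^ b' with hc
  have hc4 : 4 ≤ c := le_trans (by norm_num) (Nat.pow_le_pow_right two_pos hb')
  have hmc : m = 2 * c := by rw [← hsm, pow_succ']
  have hcA : Nat.card A ∣ q - 1 := by simpa using hN.hA
  have hodd : q % 2 = 1 := by
    have : 2 ∣ q - 1 := hN.hs.trans hcA
    omega
  have hdvdm : q ^ c + 1 ∣ q ^ m - 1 := by
    refine ⟨q ^ c - 1, ?_⟩
    rw [← Nat.sq_sub_sq, one_pow, hmc, mul_comm, pow_mul]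
  have hprimes : ∀ l' : ℕ, l'.Prime → l' ≠ 2 → l' ∣ q ^ c + 1 → l' = l := by
    intro l' hl' hl2 hd'
    have := Fact.mk hl'
    have hprl : IsPrimitivePrimeDivisor l' q m := by
      rw [isPrimitivePrimeDivisor_iff hl' (by omega) (by omega)]
      have hqc : (q : ZMod l') ^ c = -1 := by
        have h0 : ((q ^ c + 1 : ℕ) : ZMod l') = 0 := (ZMod.natCast_eq_zero_iff _ _).2 hd'
        push_cast at h0
        linear_combination h0
      rw [hmc, hc, ← pow_succ']
      refine orderOf_eq_prime_pow (p := 2) (n := b') ?_ ?_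
      · rw [← hc, hqc]
        intro e
        have h2 : ((2 : ℕ) : ZMod l') = 0 := by push_cast; linear_combination -e
        rw [ZMod.natCast_eq_zero_iff] at h2
        exact hl2 ((Nat.prime_dvd_prime_iff_eq hl' Nat.prime_two).1 h2)
      · rw [pow_succ, pow_mul, ← hc, hqc, neg_one_sq]
    have hG' : l' ∣ Nat.card G := by
      have := hprim l' 1 (hn.symm ▸ hprl) (by rw [pow_one, hn]; exact hprl.2.1)
      rwa [pow_one] at this
    have h1 := h.primitive_bound hN hE (by rw [one_mul]; exact hprl) hG'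
    have h2 := hprl.lt (by omega) (by omega)
    omega
  have hlA : ¬ l ∣ Nat.card A := fun e => hl.2.2 1 one_pos (by omega) (by simpa using e.trans hcA)
  have hsq : ¬ l ^ 2 ∣ q ^ c + 1 := fun e =>
    h.not_sq_dvd (b := b' + 1) rfl (by omega) hl.1 (by omega) hC hN.hW (hfull hsm) hlA
      (hprim l 2 (hn.symm ▸ hl) (hn.symm ▸ e.trans hdvdm))
  have h4 : ¬ 4 ∣ q ^ c + 1 := by
    intro e
    obtain ⟨u, hu⟩ : ∃ u, c = 2 * u := ⟨2 ^ (b' - 1), by rw [hc, ← pow_succ']; congr 1; omega⟩
    obtain ⟨v, hv⟩ : ∃ v, q ^ u = 2 * v + 1 := by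
      have : Odd (q ^ u) := (Nat.odd_iff.2 hodd).pow
      exact this
    rw [hu, mul_comm, pow_mul, hv, show (2 * v + 1) ^ 2 + 1 = 4 * (v * v + v) + 2 by ring] at e
    omega
  have hdvd2l : q ^ c + 1 ∣ 2 * l := by
    rw [← Nat.factorization_prime_le_iff_dvd (by omega) (by omega)]
    intro r hr
    by_cases hd' : r ∣ q ^ c + 1
    swap
    · rw [Nat.factorization_eq_zero_of_not_dvd hd']; exact Nat.zero_le _
    have hle1 : (q ^ c + 1).factorization r ≤ 1 := by
      by_contra hgt
      have := (hr.pow_dvd_iff_le_factorization (by omega)).2 (show 2 ≤ (q ^ c + 1).factorization r by omega)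
      rcases ne_or_eq r 2 with h2 | h2
      · exact hsq (hprimes r hr h2 hd' ▸ this)
      · exact h4 (by subst h2; simpa using this)
    refine hle1.trans ((hr.pow_dvd_iff_le_factorization (by omega)).1 ?_)
    rw [pow_one]
    rcases ne_or_eq r 2 with h2 | h2
    · exact hprimes r hr h2 hd' ▸ dvd_mul_left l 2
    · exact h2 ▸ dvd_mul_right 2 l
  have hle2 := Nat.le_of_dvd (by omega) hdvd2l
  have hq3 : 3 ^ c ≤ q ^ c := Nat.pow_le_pow_left (by omega) c
  have hgrow : ∀ k : ℕ, 4 ≤ k → 4 * k + 2 ≤ 3 ^ k := by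
    intro k hk
    induction k, hk using Nat.le_induction with
    | base => norm_num
    | succ k hk ih => rw [pow_succ]; omega
  have := hgrow c hc4
  omega

end Ctx

end Cfsg.Agent.BC86.Palfy
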