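import Cfsg.Agent.BC86.Palfy.Setup
import Cfsg.Agent.Lib.Solvable.Basic

/-!
The case of a minimal normal subgroup of order prime to the lacking prime.
-/

namespace Cfsg.Agent.BC86.Palfy

open MulAction Cfsg.Agent.BC86.RelGraph
open scoped commutatorElement

attribute [local instance] fnAction

universe u

variable {G : Type u} [Group G] [Finite G]

/-- The case `s ≠ t`. -/
theorem false_of_caseA (hs : Group.IsSolvable G) {t q r : ℕ} (hb : Bad G t q r) (N : Subgroup G)
    [N.Normal] {s : ℕ} [Fact s.Prime] (hne : N ≠ ⊥)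
    (hmin : ∀ K : Subgroup G, K.Normal → K ≤ N → K = ⊥ ∨ K = N) (hNp : IsPGroup s N)
    (hNc : ∀ a ∈ N, ∀ b ∈ N, a * b = b * a) (hexp : ∀ a ∈ N, a ^ s = 1) (hts : t ≠ s)
    (hlack : Lack (G ⧸ N) t) : False := by
  classical
  haveI := hs
  haveI := hb.fx
  haveI := hb.fy
  haveI := hb.fz
  haveI : IsMulCommutative N := ⟨⟨fun a b => Subtype.ext (hNc a a.2 b b.2)⟩⟩
  obtain ⟨P, hPn, hPa, hPp, hPi⟩ :=
    hlack.exists_sylow (Group.isSolvable_of_surjective (QuotientGroup.mk'_surjective N))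
  haveI : (P.comap (QuotientGroup.mk' N)).Normal := hPn.comap _
  set K := P.comap (QuotientGroup.mk' N) with hK
  have hKi : ¬ t ∣ K.index := by
    rwa [hK, Subgroup.index_comap_of_surjective _ (QuotientGroup.mk'_surjective N)]
  obtain ⟨T⟩ := (inferInstance : Nonempty (Sylow t G))
  have hTK : (T : Subgroup G) ≤ K := fun g hg => by
    obtain ⟨k, hk⟩ := T.2 ⟨g, hg⟩
    exact mem_of_pow_order K hKi (k := k) (congrArg Subtype.val hk :)
  have hTmap : (T : Subgroup G).map (QuotientGroup.mk' N) = P := by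
    refine le_antisymm (Subgroup.map_le_iff_le_comap.2 hTK) ?_
    exact (hPp.le_sylow_of_normal (T.mapSurjective (QuotientGroup.mk'_surjective N))).trans le_rfl
  have hKT : K = (T : Subgroup G) ⊔ N := by
    rw [hK, ← hTmap, Solvable.comap_map_mk']
  have hNT : Disjoint N (T : Subgroup G) := IsPGroup.disjoint_of_ne s t hts.symm _ _ hNp T.2
  have hTa : ∀ a ∈ T, ∀ b ∈ T, a * b = b * a := by
    intro a ha b hb'
    rw [← commutatorElement_eq_one_iff_mul_comm]
    refine (Subgroup.disjoint_def.1 hNT) ?_ ?_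
    · rw [← QuotientGroup.eq_one_iff]
      show QuotientGroup.mk' N ⁅a, b⁆ = 1
      rw [map_commutatorElement, commutatorElement_eq_one_iff_mul_comm]
      exact hPa _ (hTK ha) _ (hTK hb')
    · exact Subgroup.commutator_le_self (T : Subgroup G) (Subgroup.commutator_mem_commutator ha hb')
  set L := Subgroup.normalizer ((T : Subgroup G) : Set G) with hL
  have hTL : (T : Subgroup G) ≤ L := Subgroup.le_normalizer
  have hsup : N ⊔ L = ⊤ := by
    have h := Sylow.normalizer_sup_eq_top (N := K) (T.subtype hTK)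
    rw [Sylow.coe_subtype, Subgroup.map_subgroupOf_eq_of_le hTK, hKT] at h
    rw [eq_top_iff, ← h]
    exact sup_le le_sup_right (sup_le (hTL.trans le_sup_right) le_sup_left)
  have hLne : L ≠ ⊤ := fun e => by
    haveI : (T : Subgroup G).Normal := Subgroup.normalizer_eq_top_iff.1 e
    exact hb.dx (lack_of_abelian (T : Subgroup G) hTa
      (T.not_dvd_index' Subgroup.index_ne_zero_of_finite))
  have hNL : N ⊓ L = ⊥ := Solvable.inf_eq_bot_of_minimal_normal N L hmin hsup hLne
  have hc : L.IsComplement' N := by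
    refine Subgroup.isComplement'_of_disjoint_and_mul_eq_univ ?_ ?_
    · rw [disjoint_iff, inf_comm, hNL]
    · rw [← Subgroup.mul_normal, sup_comm, hsup, Subgroup.coe_top]
  obtain ⟨π, hπ, hker, hsurj⟩ := exists_proj N L hc
  -- no linear character is fixed by `T`
  have hmove : ∀ φ : N →* ℂˣ, φ ≠ 1 → t ∣ (stabilizer G (coeFn N φ)).index := by
    intro φ hφ
    by_contra hdvd
    have hirr := CharCore.isIrrCharacter_hom φ
    have := Fintype.ofFinite N
    have hNI : N ≤ stabilizer G (coeFn N φ) := le_stabilizer N hirr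
    set I := stabilizer G (coeFn N φ) with hI
    obtain ⟨S₀⟩ := (inferInstance : Nonempty (Sylow t I))
    have hSi : ¬ t ∣ ((S₀ : Subgroup I).map I.subtype).index := by
      rw [Subgroup.index_map_subtype]
      intro hd
      rcases (Fact.out : t.Prime).dvd_mul.1 hd with h | h
      · exact S₀.not_dvd_index' Subgroup.index_ne_zero_of_finite h
      · exact hdvd h
    set S := (S₀.2.map I.subtype).toSylow hSi with hS
    have hSI : (S : Subgroup G) ≤ I := Subgroup.map_subtype_le _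
    obtain ⟨g, hg⟩ := MulAction.exists_smul_eq G T S
    obtain ⟨n, hn, l, hl, rfl⟩ := Subgroup.mem_sup_of_normal_left.1 (hsup ▸ Subgroup.mem_top g : g ∈ N ⊔ L)
    have hlT : l • T = T := Sylow.smul_eq_iff_mem_normalizer.2 hl
    rw [mul_smul, hlT] at hg
    have hTI : (T : Subgroup G) ≤ I := by
      intro x hx
      have h1 : n * x * n⁻¹ ∈ (S : Subgroup G) := by
        rw [← hg, Sylow.coe_subgroup_smul]
        exact ⟨x, hx, rfl⟩
      have h2 := mul_mem (mul_mem (inv_mem (hNI hn)) (hSI h1)) (hNI hn)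
      simpa [mul_assoc] using h2
    have hKI : K ≤ I := hKT ▸ sup_le hTI hNI
    rcases hmin ⁅N, K⁆ (Subgroup.commutator_normal N K) (Subgroup.commutator_le_left N K) with h | h
    · -- `K` centralizes `N`
      apply hne
      rw [← hNL, eq_comm, inf_eq_left]
      intro x hx
      rw [hL, Subgroup.mem_normalizer_iff]
      intro y
      have key : ∀ y ∈ T, x * y * x⁻¹ = y := fun y hy => by
        have h1 : ⁅x, y⁆ ∈ (⊥ : Subgroup G) := h ▸ Subgroup.commutator_mem_commutator hx (hTK hy)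
        rw [Subgroup.mem_bot, commutatorElement_eq_one_iff_mul_comm] at h1
        rw [h1, mul_inv_cancel_right]
      refine ⟨fun hy => (key y hy).symm ▸ hy, fun hy => ?_⟩
      have h2 := key _ hy
      have : x * y * x⁻¹ = y := mul_left_cancel (mul_right_cancel h2)
      exact this ▸ hy
    · apply hφ
      ext n
      have hle : ⁅N, K⁆ ≤ φ.ker.map N.subtype := by
        rw [Subgroup.commutator_le]
        intro a ha k hk
        have hkm : k * a⁻¹ * k⁻¹ ∈ N := Subgroup.Normal.conj_mem ‹_› _ (inv_mem ha) k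
        refine ⟨⟨a, ha⟩ * ⟨k * a⁻¹ * k⁻¹, hkm⟩, ?_, ?_⟩
        · rw [SetLike.mem_coe, MonoidHom.mem_ker, map_mul]
          have h1 := congrFun (mem_stabilizer_iff.1 (inv_mem (hKI hk) : k⁻¹ ∈ I)) ⟨a⁻¹, inv_mem ha⟩
          rw [smul_fn_apply, inv_inv] at h1
          have h2 : φ ⟨k * a⁻¹ * k⁻¹, hkm⟩ = φ (⟨a, ha⟩⁻¹) :=
            (congrArg φ (Subtype.ext (MulAut.conjNormal_apply k (⟨a⁻¹, inv_mem ha⟩ : N)).symm)).trans
              ((Units.ext h1).trans (congrArg φ (Subtype.ext rfl)))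
          rw [h2, ← map_mul, mul_inv_cancel, map_one]
        · simp [commutatorElement_def, mul_assoc]
      rw [h] at hle
      obtain ⟨m, hm, hme⟩ := hle n.2
      rw [show n = m from (Subtype.ext hme).symm]
      simpa using hm
  have hsyl : ∀ {b : ℕ} [Fact b.Prime], t ≠ b → NoPair G t b → ∀ φ : N →* ℂˣ, φ ≠ 1 →
      ∃ S : Sylow b L, (S : Subgroup L) ≤ (stabilizer G (coeFn N φ)).comap L.subtype ∧
        (∀ x ∈ S, ∀ y ∈ S, x * y = y * x) ∧
        ∀ S' : Sylow b L, (S' : Subgroup L) ≤ (stabilizer G (coeFn N φ)).comap L.subtype → S' = S := by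
    intro b _ htb hnp φ hφ
    have := Fintype.ofFinite N
    have hirr := CharCore.isIrrCharacter_hom φ
    obtain ⟨ψ, hψ, hext⟩ := exists_linear_ext N π hπ hker φ
    obtain ⟨S, h1, h2, h3⟩ := exists_sylow_in N inferInstance π hsurj hker (θ := coeFn N φ) hirr (d := 1)
      (by simp [coeFn]) hψ hext htb hnp (by rw [mul_one]; exact hmove φ hφ)
    have hmap : (stabilizer G (coeFn N φ)).map π = (stabilizer G (coeFn N φ)).comap L.subtype :=
      Subgroup.ext fun l => mem_map_proj hπ hker (le_stabilizer N hirr)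
    rw [hmap] at h1 h3
    exact ⟨S, h1, h2, h3⟩
  have hQ : SpreadM (V := N →* ℂˣ) (dualAct N L) q := spread_of_sylow_in fun φ hφ => by
    obtain ⟨S, h1, -, h3⟩ := hsyl hb.hxy hb.nxy φ hφ
    exact ⟨S, h1, h3⟩
  have hR : SpreadM (V := N →* ℂˣ) (dualAct N L) r := spread_of_sylow_in fun φ hφ => by
    obtain ⟨S, h1, -, h3⟩ := hsyl hb.hxz hb.nxz φ hφ
    exact ⟨S, h1, h3⟩
  obtain ⟨a₀, ha₀⟩ := Subgroup.ne_bot_iff_exists_ne_one.1 hne
  obtain ⟨φ₀, hφ₀⟩ : ∃ φ : N →* ℂˣ, φ ≠ 1 := by
    by_contra hc'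
    push Not at hc'
    exact ha₀ (eq_of_forall_linear N hNc fun φ => by rw [hc' φ, MonoidHom.one_apply, MonoidHom.one_apply])
  haveI : Nontrivial (N →* ℂˣ) := ⟨⟨φ₀, 1, hφ₀⟩⟩
  have hV : ∀ φ : N →* ℂˣ, φ ^ s = 1 := fun φ => MonoidHom.ext fun n => by
    rw [MonoidHom.pow_apply, ← map_pow, show n ^ s = 1 from Subtype.ext (hexp n n.2), map_one,
      MonoidHom.one_apply]
  have hfinish : ∀ {b : ℕ} [Fact b.Prime], t ≠ b → NoPair G t b → SpreadM (V := N →* ℂˣ) (dualAct N L) b →
      Subsingleton (Sylow b L) → Lack G b := by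
    intro b _ htb hnp hspread _
    obtain ⟨S, -, hSa, -⟩ := hsyl htb hnp φ₀ hφ₀
    haveI : (S : Subgroup L).Normal := S.normal_of_subsingleton
    exact lack_of_centralizing hπ hker hsurj hNc S hSa fun l hl n hn =>
      commute_of_fix_all N L hNc (hspread.fix_all S hl) hn
  rcases unique_or_degree (V := N →* ℂˣ) inferInstance hV (dualAct N L) hb.hyz hQ hR with h | h | h
  · exact hb.dy (hfinish hb.hxy hb.nxy hQ h)
  · exact hb.dz (hfinish hb.hxz hb.nxz hR h)
  · obtain ⟨θ, hθ⟩ := h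
    have hirr : Cfsg.IsIrrCharacter G (fun g => (θ : L → ℂ) (π g)) :=
      CharCore.isIrrCharacter_comp_surjective θ.2 π hsurj
    refine hb.nyz ⟨_, hirr⟩ ?_
    rwa [CharDeep.Deg.degree_of_eq (f := fun g => (θ : L → ℂ) (π g))
      (by rw [map_one]; exact CharDeep.Deg.apply_one θ)]

end Cfsg.Agent.BC86.Palfy
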