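import Cfsg.Agent.BC86.Palfy.Orbit

/-!
Counting fixed points of spread Sylow subgroups.
-/

namespace Cfsg.Agent.BC86.Palfy

variable {L : Type*} [Group L] [Finite L] {V : Type*} [CommGroup V] [Finite V]

/-- The elements fixed by a subgroup. -/
def fixM (σ : L →* MulAut V) (R : Subgroup L) : Subgroup V where
  carrier := {v | ∀ g ∈ R, σ g v = v}
  mul_mem' := fun {a b} ha hb g hg => by rw [map_mul, ha g hg, hb g hg]
  one_mem' := fun _ _ => map_one _
  inv_mem' := fun {a} ha g hg => by rw [map_inv, ha g hg]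

theorem mem_fixM {σ : L →* MulAut V} {R : Subgroup L} {v : V} :
    v ∈ fixM σ R ↔ ∀ g ∈ R, σ g v = v := Iff.rfl

variable {σ : L →* MulAut V} {r : ℕ} [Fact r.Prime]

omit [Finite V] in
theorem fixM_smul {S : Sylow r L} {v : V} (hv : v ∈ fixM σ (S : Subgroup L)) (x : L) :
    σ x v ∈ fixM σ ((x • S : Sylow r L) : Subgroup L) := by
  intro g hg
  rw [Sylow.coe_subgroup_smul] at hg
  obtain ⟨y, hy, rfl⟩ := hg
  have hy' : σ y v = v := hv y hy
  show σ (x * y * x⁻¹) (σ x v) = σ x v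
  rw [← MulAut.mul_apply, ← map_mul, inv_mul_cancel_right, map_mul, MulAut.mul_apply, hy']

/-- The spread counting. -/
theorem count (hR : SpreadM σ r) (S₀ : Sylow r L) :
    Nat.card (Sylow r L) * (Nat.card (fixM σ (S₀ : Subgroup L)) - 1) = Nat.card V - 1 := by
  classical
  let f : {v : V // v ≠ 1} → Sylow r L := fun v => (hR v v.2).choose
  have hf : ∀ v : {v : V // v ≠ 1}, (v : V) ∈ fixM σ (f v : Subgroup L) :=
    fun v => (hR v v.2).choose_spec.1
  have hu : ∀ v : {v : V // v ≠ 1}, ∀ S : Sylow r L, (v : V) ∈ fixM σ (S : Subgroup L) → S = f v :=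
    fun v S hS => (hR v v.2).choose_spec.2 S hS
  have hfib : ∀ S : Sylow r L, Nat.card {v // f v = S} =
      Nat.card {w : fixM σ (S₀ : Subgroup L) // w ≠ 1} := by
    intro S
    obtain ⟨x, hx⟩ := MulAction.exists_smul_eq L S S₀
    have hx' : x⁻¹ • S₀ = S := by rw [← hx, inv_smul_smul]
    refine Nat.card_congr
      { toFun := fun v => ⟨⟨σ x (v.1 : V), by
            rw [← hx]
            refine fixM_smul (S := S) ?_ x
            intro g hg
            exact hf v.1 g (v.2.symm ▸ hg)⟩, fun e =>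
          v.1.2 ((MulEquiv.map_eq_one_iff (σ x)).1 (congrArg Subtype.val e))⟩
        invFun := fun w => ⟨⟨σ x⁻¹ (w.1 : V), fun e => w.2 (Subtype.ext ((MulEquiv.map_eq_one_iff (σ x⁻¹)).1 e))⟩,
          (hu ⟨σ x⁻¹ (w.1 : V), _⟩ S (by
            rw [← hx']
            exact fixM_smul (S := S₀) w.1.2 x⁻¹)).symm⟩
        left_inv := fun v => Subtype.ext (Subtype.ext (by
          show σ x⁻¹ (σ x (v.1 : V)) = v.1
          rw [← MulAut.mul_apply, ← map_mul, inv_mul_cancel, map_one]; rfl))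
        right_inv := fun w => Subtype.ext (Subtype.ext (by
          show σ x (σ x⁻¹ (w.1 : V)) = w.1
          rw [← MulAut.mul_apply, ← map_mul, mul_inv_cancel, map_one]; rfl)) }
  have := Fintype.ofFinite (Sylow r L)
  have hne0 : ∀ (W : Type _) [One W] [Finite W], Nat.card {w : W // w ≠ 1} = Nat.card W - 1 := by
    intro W _ _
    have := Fintype.ofFinite W
    rw [Nat.card_eq_fintype_card, Nat.card_eq_fintype_card, Fintype.card_subtype_compl,
      Fintype.card_subtype_eq]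
  rw [← hne0 V, ← hne0 (fixM σ (S₀ : Subgroup L)), ← Nat.card_congr (Equiv.sigmaFiberEquiv f),
    Nat.card_sigma, Finset.sum_congr rfl fun S _ => hfib S, Finset.sum_const, Finset.card_univ,
    ← Nat.card_eq_fintype_card, smul_eq_mul]

/-- Every Sylow subgroup fixes a non-identity element. -/
theorem SpreadM.exists_fixed [Nontrivial V] (hR : SpreadM σ r) (S : Sylow r L) :
    ∃ v : V, v ≠ 1 ∧ v ∈ fixM σ (S : Subgroup L) := by
  obtain ⟨v, hv⟩ := exists_ne (1 : V)
  obtain ⟨T, hT, -⟩ := hR v hv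
  obtain ⟨x, hx⟩ := MulAction.exists_smul_eq L T S
  exact ⟨σ x v, fun e => hv ((MulEquiv.map_eq_one_iff (σ x)).1 e), hx ▸ fixM_smul hT x⟩

omit [Finite V] in
/-- A moved element has a moved bracket, in coprime action. -/
theorem exists_moved_bracket {k : ℕ} (hV : ∀ v : V, v ^ k = 1) (hk : (Nat.card L).Coprime k)
    {S : Subgroup L} {w : V} (hw : ¬ ∀ x ∈ S, σ x w = w) :
    ∃ x ∈ S, ¬ ∀ y ∈ S, σ y (σ x w * w⁻¹) = σ x w * w⁻¹ := by
  by_contra hc
  push Not at hc
  refine hw fun x hx => ?_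
  set c := σ x w * w⁻¹ with hcdef
  have hxc : σ x c = c := hc x hx x hx
  have hxw : σ x w = c * w := by rw [hcdef, inv_mul_cancel_right]
  have hj : ∀ j : ℕ, σ (x ^ j) w = c ^ j * w := by
    intro j
    induction j with
    | zero => simp
    | succ j ih =>
      rw [pow_succ', map_mul, MulAut.mul_apply, ih, map_mul, map_pow, hxc, hxw, ← mul_assoc, ← pow_succ]
  have h1 := hj (Nat.card L)
  rw [pow_card_eq_one', map_one, MulAut.one_apply] at h1
  have h2 : c ^ Nat.card L = 1 := mul_eq_right.1 h1.symm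
  have h4 := pow_gcd_eq_one.2 ⟨h2, hV c⟩
  rw [Nat.Coprime.gcd_eq_one hk, pow_one] at h4
  rw [hxw, h4, one_mul]

omit [Finite V] in
/-- A subgroup fixing `w` fixes `w₀` when its partner fixing `w * w₀` has the same bracket fixer. -/
theorem fixed_transfer {x : L} {R R' : Sylow r L} {w w₀ : V} (hx₀ : σ x w₀ = w₀)
    (hR : ∀ y ∈ R, σ y w = w) (hR' : ∀ y ∈ R', σ y (w * w₀) = w * w₀)
    (hc : ∀ y ∈ R, x * y = y * x) (hc' : ∀ y ∈ R', x * y = y * x)
    (huniq : ∃! T : Sylow r L, ∀ y ∈ T, σ y (σ x w * w⁻¹) = σ x w * w⁻¹) :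
    ∀ y ∈ R, σ y w₀ = w₀ := by
  obtain ⟨T, -, hu⟩ := huniq
  have hRv : ∀ y ∈ R, σ y (σ x w * w⁻¹) = σ x w * w⁻¹ := by
    intro y hy
    rw [map_mul, map_inv, ← MulAut.mul_apply, ← map_mul, ← hc y hy, map_mul, MulAut.mul_apply, hR y hy]
  have hR'v : ∀ y ∈ R', σ y (σ x w * w⁻¹) = σ x w * w⁻¹ := by
    intro y hy
    have hu' : σ x w * w⁻¹ = σ x (w * w₀) * (w * w₀)⁻¹ := by
      rw [map_mul, hx₀, mul_inv_rev, ← mul_assoc, mul_inv_cancel_right]
    rw [hu']
    generalize hz : w * w₀ = z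
    have hzR : σ y z = z := hz ▸ hR' y hy
    rw [map_mul, map_inv, ← MulAut.mul_apply, ← map_mul, ← hc' y hy, map_mul, MulAut.mul_apply, hzR]
  have hRR : R' = R := (hu R' hR'v).trans (hu R hRv).symm
  intro y hy
  have h1 := hR' y (hRR ▸ hy)
  rw [map_mul, hR y hy] at h1
  exact mul_left_cancel h1

/-- Two spread counts with different fixed spaces are incompatible. -/
theorem false_of_two_counts {t n₀ a b n m : ℕ} (ht : 2 ≤ t) (ha : 0 < a) (hab : a < b) (h1 : 1 < n₀)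
    (hn : n₀ * (t ^ a - 1) = t ^ n - 1) (hm : n₀ * (t ^ b - 1) = t ^ m - 1) : False := by
  have hta : 2 ≤ t ^ a := ht.trans (Nat.le_self_pow ha.ne' t)
  have htb : 2 ≤ t ^ b := ht.trans (Nat.le_self_pow (by omega) t)
  have hlt : t ^ a < t ^ n := by
    have : 2 * (t ^ a - 1) ≤ n₀ * (t ^ a - 1) := Nat.mul_le_mul_right _ h1
    omega
  have han : a + 1 ≤ n := (Nat.pow_lt_pow_iff_right ht).1 hlt
  have hle : t ^ b ≤ t ^ m := by
    have : 1 * (t ^ b - 1) ≤ n₀ * (t ^ b - 1) := Nat.mul_le_mul_right _ h1.le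
    omega
  have hbm : a + 1 ≤ m := (Nat.pow_lt_pow_iff_right ht).1
    ((Nat.pow_lt_pow_right ht hab).trans_le hle)
  have Hn : (n₀ : ℤ) * ((t : ℤ) ^ a - 1) = (t : ℤ) ^ n - 1 := by
    have := congrArg (fun x : ℕ => (x : ℤ)) hn
    push_cast [Nat.cast_sub (show 1 ≤ t ^ a by omega), Nat.cast_sub (show 1 ≤ t ^ n by omega)] at this
    exact this
  have Hm : (n₀ : ℤ) * ((t : ℤ) ^ b - 1) = (t : ℤ) ^ m - 1 := by
    have := congrArg (fun x : ℕ => (x : ℤ)) hm
    push_cast [Nat.cast_sub (show 1 ≤ t ^ b by omega), Nat.cast_sub (show 1 ≤ t ^ m by omega)] at this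
    exact this
  set D : ℤ := (t : ℤ) ^ (a + 1) with hD
  have d1 : D ∣ (n₀ : ℤ) - 1 := by
    have e : (n₀ : ℤ) - 1 = n₀ * (t : ℤ) ^ b - (t : ℤ) ^ m := by linear_combination -Hm
    rw [e]
    exact dvd_sub (dvd_mul_of_dvd_right (pow_dvd_pow _ hab) _) (pow_dvd_pow _ hbm)
  have d2 : D ∣ (n₀ : ℤ) * (t : ℤ) ^ a := by
    have e : (n₀ : ℤ) * (t : ℤ) ^ a = ((n₀ : ℤ) - 1) + (t : ℤ) ^ n := by linear_combination Hn
    rw [e]
    exact dvd_add d1 (pow_dvd_pow _ han)
  have d3 : (t : ℤ) ∣ n₀ := by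
    rw [hD, pow_succ, mul_comm (n₀ : ℤ)] at d2
    exact Int.dvd_of_mul_dvd_mul_left (by positivity) d2
  have d4 : (t : ℤ) ∣ 1 := by
    have := dvd_sub d3 ((dvd_pow_self (t : ℤ) a.succ_ne_zero).trans d1)
    simpa using this
  have := Int.le_of_dvd one_pos d4
  omega

end Cfsg.Agent.BC86.Palfy
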