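import Cfsg.Agent.BC86.Palfy.CentralKernel
import Cfsg.Agent.BC86.Palfy.Count

/-!
A unique Sylow subgroup in the complement contradicts the spread of the other prime.
-/

namespace Cfsg.Agent.BC86.Palfy

open MulAction Cfsg.Agent.CharDeep Cfsg.Agent.BC86.RelGraph
open scoped commutatorElement

attribute [local instance] fnAction

universe u

variable {G : Type u} [Group G] [Finite G]

/-- A Sylow subgroup that is normal lies in every subgroup of index prime to it. -/
theorem sylow_le_of_index {H : Type*} [Group H] [Finite H] {p : ℕ} [Fact p.Prime] (S : Sylow p H)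
    [(S : Subgroup H).Normal] (I : Subgroup H) (hI : ¬ p ∣ I.index) : (S : Subgroup H) ≤ I := by
  obtain ⟨T⟩ := (inferInstance : Nonempty (Sylow p I))
  have hTi : ¬ p ∣ ((T : Subgroup I).map I.subtype).index := by
    rw [Subgroup.index_map_subtype]
    intro hd
    rcases (Fact.out : p.Prime).dvd_mul.1 hd with h | h
    · exact T.not_dvd_index' Subgroup.index_ne_zero_of_finite h
    · exact hI h
  have h1 : (S : Subgroup H) ≤ ((T.2.map I.subtype).toSylow hTi : Subgroup H) :=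
    S.2.le_sylow_of_normal _
  exact h1.trans (Subgroup.map_subtype_le _)

/-- The main contradiction of the second case. -/
theorem false_of_unique (hs : Group.IsSolvable G) (hG : SmallerGood G) {t q r : ℕ} [Fact t.Prime]
    [Fact q.Prime] [Fact r.Prime] (hb : Bad G t q r) {N T L : Subgroup G} [N.Normal] [T.Normal]
    (h : CB t N T L) {π : G →* L} (hπ : ∀ l : L, π (l : G) = l) (hker : π.ker = T)
    (hsurj : Function.Surjective π) [Subsingleton (Sylow q L)] : False := by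
  classical
  haveI := hs
  have := Fintype.ofFinite T
  have := Fintype.ofFinite N
  obtain ⟨n₁, hn₁⟩ := Subgroup.ne_bot_iff_exists_ne_one.1 h.ne_bot
  obtain ⟨μ₀, hμ₀⟩ : ∃ μ : N →* ℂˣ, μ ≠ 1 := by
    by_contra hc
    push Not at hc
    exact hn₁ (eq_of_forall_linear N h.N_comm fun φ => by
      rw [hc φ, MonoidHom.one_apply, MonoidHom.one_apply])
  haveI : Nontrivial (N →* ℂˣ) := ⟨⟨μ₀, 1, hμ₀⟩⟩
  obtain ⟨k, hk⟩ := IsPGroup.iff_card.1 h.pT
  have hpT : ∀ (w : T →* ℂˣ) (g : T), w g ^ Nat.card T = 1 := fun w g => by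
    rw [← map_pow, pow_card_eq_one', map_one]
  obtain ⟨S, -, hSa, -⟩ := h.sylow_in hs hπ hker hsurj hb.hxy hb.nxy hμ₀
  haveI : (S : Subgroup L).Normal := S.normal_of_subsingleton
  have hQ : SpreadM (V := N →* ℂˣ) (dualAct N L) q := spread_of_sylow_in fun μ hμ => by
    obtain ⟨S, h1, -, h3⟩ := h.sylow_in hs hπ hker hsurj hb.hxy hb.nxy hμ
    exact ⟨S, h1, h3⟩
  have hR : SpreadM (V := N →* ℂˣ) (dualAct N L) r := spread_of_sylow_in fun μ hμ => by
    obtain ⟨S, h1, -, h3⟩ := h.sylow_in hs hπ hker hsurj hb.hxz hb.nxz hμ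
    exact ⟨S, h1, h3⟩
  have hSV : ∀ x ∈ S, ∀ μ : N →* ℂˣ, dualAct N L x μ = μ := fun x hx μ => hQ.fix_all S hx μ
  -- some element of `T` is moved modulo `N`
  let Fixed : (T →* ℂˣ) → Prop := fun w => ∀ x ∈ S, dualAct T L x w = w
  have hmoved : ∃ w, ¬ Fixed w := by
    by_contra hc
    push Not at hc
    exact hb.dy (h.lack_of_fix hb.hxy S hSa hSV fun x hx w => hc w x hx)
  let InD : T → Prop := fun g => ∀ x ∈ S, ⁅((x : L) : G), (g : G)⁆ ∈ N
  have hT_conj : ∀ (l : L) (g : T), ⁅(l : G), (g : G)⁆ ∈ T := fun l g => by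
    rw [commutatorElement_def]
    exact mul_mem (h.normalT.conj_mem g g.2 _) (inv_mem g.2)
  have hDstep : ∀ g : T, (∀ x ∈ S, ∀ hc : ⁅((x : L) : G), (g : G)⁆ ∈ T, InD ⟨_, hc⟩) → InD g :=
    fun g hg x hx => mem_of_bracket N (hg x hx (hT_conj x g) x hx) (h.pow_L x)
      (h.pow_T (hT_conj x g)) h.coprime_L.symm
  -- radical elements are fixed modulo `N`
  have hrad : ∀ μ : N →* ℂˣ, μ ≠ 1 → ∀ g : T,
      (∀ a : T, μ ⟨⁅(g : G), (a : G)⁆, h.comm g g.2 a a.2⟩ = 1) → InD g := by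
    intro μ hμ g hg x hx
    obtain ⟨φ, d, hφ, hd, hdT, htd, hres, -⟩ := h.exists_char hs hμ
    have hfix : ∀ φ' : T → ℂ, Cfsg.IsIrrCharacter T φ' → φ' 1 = d → (x : G) ∈ stabilizer G φ' := by
      intro φ' hφ' hd'
      obtain ⟨ψ, hψ, hext⟩ := exists_coprime_ext T hs h.coprime hφ' hd' hdT
      obtain ⟨S', h1, -, -⟩ := exists_sylow_in T inferInstance π hsurj hker hφ' hd' hψ hext hb.hxy
        hb.nxy (dvd_mul_of_dvd_right htd _)
      exact (mem_map_proj hπ hker (le_stabilizer T hφ')).1 (h1 (Subsingleton.elim S S' ▸ hx))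
    refine (Subgroup.mem_subgroupOf (H := N) (K := T) (h := ⟨_, hT_conj x g⟩)).1 ?_
    refine mem_of_forall_linear (N.subgroupOf T) (fun a b => h.comm a a.2 b b.2) fun w => ?_
    have h1 := hfix φ hφ hd
    have h2 := hfix (fun a => (w a : ℂ) * φ a) (CharCore.isIrrCharacter_hom_mul w hφ)
      (by rw [map_one, Units.val_one, one_mul]; exact hd)
    have e1 := congrFun (mem_stabilizer_iff.1 (inv_mem h1)) g
    have e2 := congrFun (mem_stabilizer_iff.1 (inv_mem h2)) g
    rw [smul_fn_apply, inv_inv] at e1 e2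
    rw [e1] at e2
    have e3 := Units.ext (mul_right_cancel₀ (h.apply_ne_zero hφ hd hres hg) e2)
    rw [show (⟨⁅((x : L) : G), (g : G)⁆, hT_conj x g⟩ : T) =
      (MulAut.conjNormal (x : G) : MulAut T) g * g⁻¹ from Subtype.ext (by
        rw [Subgroup.coe_mul, MulAut.conjNormal_apply, InvMemClass.coe_inv]
        exact commutatorElement_def _ _), map_mul, e3, ← map_mul, mul_inv_cancel, map_one]
  -- linear characters moved by `S` spread the `r`-Sylow subgroups
  have hspreadW : ∀ w : T →* ℂˣ, ¬ Fixed w →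
      ∃! R : Sylow r L, ∀ y ∈ R, dualAct T L y w = w := by
    intro w hw
    have hirr : Cfsg.IsIrrCharacter T (coeFn T w) := CharCore.isIrrCharacter_hom w
    have hTI := le_stabilizer T hirr
    have hdvd : q ∣ (stabilizer G (coeFn T w)).index := by
      by_contra hn
      rw [← Subgroup.index_map_eq _ hsurj (hker ▸ hTI)] at hn
      exact hw fun x hx => dualAct_eq_iff.2
        ((mem_map_proj hπ hker hTI).1 (sylow_le_of_index S _ hn hx))
    obtain ⟨ψ, hψ, hext⟩ := exists_linear_ext T π hπ hker w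
    obtain ⟨R, h1, -, h3⟩ := exists_sylow_in T inferInstance π hsurj hker hirr (d := 1)
      (by simp [coeFn]) hψ hext hb.hyz hb.nyz (by rwa [mul_one])
    exact ⟨R, fun y hy => dualAct_eq_iff.2 ((mem_map_proj hπ hker hTI).1 (h1 hy)),
      fun R' hR' => h3 R' fun y hy => (mem_map_proj hπ hker hTI).2 (dualAct_eq_iff.1 (hR' y hy))⟩
  -- `S` centralizes every `r`-Sylow subgroup
  have hcomm : ∀ R : Sylow r L, ∀ x ∈ S, ∀ y ∈ R, x * y = y * x := by
    intro R x hx y hy
    obtain ⟨μ, hμ, hμR⟩ := hR.exists_fixed R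
    have hxμ : μ ∈ fixM (dualAct N L) ((x • R : Sylow r L) : Subgroup L) := by
      have h1 := fixM_smul hμR x
      rwa [hSV x hx μ] at h1
    obtain ⟨R₁, -, hu⟩ := hR μ hμ
    have heq : x • R = R := (hu _ hxμ).trans (hu R hμR).symm
    have hxyR : x * y * x⁻¹ ∈ (R : Subgroup L) := by
      have : x * y * x⁻¹ ∈ ((x • R : Sylow r L) : Subgroup L) := by
        rw [Sylow.coe_subgroup_smul]; exact ⟨y, hy, rfl⟩
      rwa [heq] at this
    have h1 : ⁅x, y⁆ ∈ (S : Subgroup L) := by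
      rw [commutatorElement_def, mul_assoc x y, mul_assoc]
      refine mul_mem hx ?_
      exact Subgroup.Normal.conj_mem ‹_› _ (inv_mem hx) y
    have h2 : ⁅x, y⁆ ∈ (R : Subgroup L) := by
      rw [commutatorElement_def]; exact mul_mem hxyR (inv_mem hy)
    exact commutatorElement_eq_one_iff_mul_comm.1
      (Subgroup.disjoint_def.1 (IsPGroup.disjoint_of_ne q r hb.hyz _ _ S.2 R.2) h1 h2)
  have hSfix_mul : ∀ w w' : T →* ℂˣ, Fixed w' → ¬ Fixed w → ¬ Fixed (w * w') := by
    intro w w' hw' hw hc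
    refine hw fun x hx => ?_
    have h1 := hc x hx
    rw [map_mul, hw' x hx] at h1
    exact mul_right_cancel h1
  -- a moved character has a moved bracket
  have hbracket : ∀ w : T →* ℂˣ, ¬ Fixed w → ∃ x ∈ S, ¬ Fixed (dualAct T L x w * w⁻¹) := fun w hw =>
    exists_moved_bracket (V := T →* ℂˣ) (σ := dualAct T L) (k := Nat.card T)
      (fun v => MonoidHom.ext fun g => hpT v g) h.coprime_L.symm hw
  -- the fixed characters are fixed by every `r`-element
  have hW0r : ∀ w₀, Fixed w₀ → ∀ R : Sylow r L, ∀ y ∈ R, dualAct T L y w₀ = w₀ := by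
    intro w₀ hw₀ R y hy
    obtain ⟨w', hw'⟩ := hmoved
    obtain ⟨R₂, hR₂, -⟩ := hspreadW w' hw'
    obtain ⟨z, hz⟩ := MulAction.exists_smul_eq L R₂ R
    set w := dualAct T L z w' with hwdef
    have hwR : w ∈ fixM (V := T →* ℂˣ) (dualAct T L) (R : Subgroup L) :=
      hz ▸ fixM_smul (V := T →* ℂˣ) (σ := dualAct T L) (S := R₂) (v := w') (fun g hg => hR₂ g hg) z
    have hw : ¬ Fixed w := by
      intro hc
      refine hw' fun x hx => ?_
      have h1 := hc (z * x * z⁻¹) (Subgroup.Normal.conj_mem ‹_› _ hx z)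
      rw [hwdef, ← MulAut.mul_apply, ← map_mul, inv_mul_cancel_right, map_mul, MulAut.mul_apply] at h1
      exact (dualAct T L z).injective h1
    obtain ⟨x, hx, hv⟩ := hbracket w hw
    obtain ⟨R', hR', -⟩ := hspreadW (w * w₀) (hSfix_mul w w₀ hw₀ hw)
    exact fixed_transfer (V := T →* ℂˣ) (σ := dualAct T L) (hw₀ x hx) (fun g hg => hwR g hg) hR'
      (hcomm R x hx) (hcomm R' x hx) (hspreadW _ hv) y hy
  -- no character of `T` is fixed
  have hW0 : ∀ w₀, Fixed w₀ → w₀ = 1 := by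
    intro w₀ hw₀
    by_contra hne
    have hirr : Cfsg.IsIrrCharacter T (coeFn T w₀) := CharCore.isIrrCharacter_hom w₀
    have hTI := le_stabilizer T hirr
    set I := stabilizer G (coeFn T w₀) with hI
    have hIx : ∀ {l : L}, dualAct T L l w₀ = w₀ → l ∈ I.map π := fun hl =>
      (mem_map_proj hπ hker hTI).2 (dualAct_eq_iff.1 hl)
    let X : Subgroup L := Subgroup.normalClosure
      {l : L | l ∈ S ∨ ∃ R : Sylow r L, l ∈ R}
    have hXle : X ≤ I.map π := by
      refine (Subgroup.closure_le _).2 fun l hl => ?_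
      obtain ⟨a, ha, hca⟩ := Group.mem_conjugatesOfSet_iff.1 hl
      obtain ⟨c, rfl⟩ := isConj_iff.1 hca
      rcases ha with ha | ⟨R, hR'⟩
      · exact hIx (hw₀ _ (Subgroup.Normal.conj_mem ‹_› _ ha c))
      · refine hIx (hW0r w₀ hw₀ (c • R) _ ?_)
        show c * a * c⁻¹ ∈ ((c • R : Sylow r L) : Subgroup L)
        rw [Sylow.coe_subgroup_smul]; exact ⟨a, hR', rfl⟩
    haveI : (X.comap π).Normal := (Subgroup.normalClosure_normal).comap π
    have hXtop : X.comap π = ⊤ := by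
      obtain ⟨R₀⟩ := (inferInstance : Nonempty (Sylow r L))
      have hXi : (X.comap π).index = X.index := Subgroup.index_comap_of_surjective _ hsurj
      refine eq_top_of_index hs hG hb _ ?_ ?_ ?_ <;> rw [hXi] <;> intro hd
      · have := hd.trans (Subgroup.index_dvd_card X)
        rw [h.card_L] at this
        exact h.idx this
      · exact S.not_dvd_index' Subgroup.index_ne_zero_of_finite (hd.trans (Subgroup.index_dvd_of_le
          fun l hl => Subgroup.subset_normalClosure (Or.inl hl)))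
      · exact R₀.not_dvd_index' Subgroup.index_ne_zero_of_finite (hd.trans (Subgroup.index_dvd_of_le
          fun l hl => Subgroup.subset_normalClosure (Or.inr ⟨R₀, hl⟩)))
    have hall : ∀ g : G, g ∈ I := by
      intro g
      have hg : π g ∈ I.map π := hXle (hXtop ▸ Subgroup.mem_top g : g ∈ X.comap π)
      obtain ⟨g', hg', e⟩ := hg
      have hk' : g'⁻¹ * g ∈ T := by rw [← hker, MonoidHom.mem_ker, map_mul, map_inv, e, inv_mul_cancel]
      simpa using mul_mem hg' (hTI hk')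
    have hinv : ∀ (l : G) (n : T),
        w₀ ⟨l * n * l⁻¹, Subgroup.Normal.conj_mem ‹_› _ n.2 l⟩ = w₀ n := by
      intro l n
      have h1 := congrFun (mem_stabilizer_iff.1 (inv_mem (hall l) : l⁻¹ ∈ I)) n
      rw [smul_fn_apply, inv_inv] at h1
      exact (congrArg w₀ (Subtype.ext (MulAut.conjNormal_apply l n).symm)).trans (Units.ext h1)
    have hmem : ∀ g : G, g * (π g : G)⁻¹ ∈ T := fun g => by
      rw [← hker, MonoidHom.mem_ker, map_mul, map_inv, hπ, mul_inv_cancel]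
    let F : G →* ℂˣ := MonoidHom.mk' (fun g => w₀ ⟨g * (π g : G)⁻¹, hmem g⟩) fun g g' => by
      rw [← hinv (π g) ⟨g' * (π g' : G)⁻¹, hmem g'⟩, ← map_mul w₀]
      refine congrArg w₀ (Subtype.ext ?_)
      simp only [Subgroup.coe_mul, map_mul]
      group
    have hFT : ∀ g : T, F (g : G) = w₀ g := fun g => congrArg w₀ (Subtype.ext (by
      have : π (g : G) = 1 := by rw [← MonoidHom.mem_ker, hker]; exact g.2
      show (g : G) * (π (g : G) : G)⁻¹ = g
      rw [this, OneMemClass.coe_one, inv_one, mul_one]))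
    have hFL : L ≤ F.ker := fun l hl => by
      have e : π l = ⟨l, hl⟩ := hπ ⟨l, hl⟩
      rw [MonoidHom.mem_ker]
      show w₀ ⟨l * (π l : G)⁻¹, _⟩ = 1
      rw [show (⟨l * (π l : G)⁻¹, hmem l⟩ : T) = 1 from Subtype.ext (show l * (π l : G)⁻¹ = 1 by
        rw [e, mul_inv_cancel]), map_one]
    have hMi : F.ker.index ∣ Nat.card T :=
      (Subgroup.index_dvd_of_le hFL).trans (h.compl.symm.index_eq_card ▸ dvd_rfl)
    have hqr' : ∀ {b : ℕ} [Fact b.Prime], t ≠ b → ¬ b ∣ F.ker.index := fun {b} _ htb hd =>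
      htb ((Nat.prime_dvd_prime_iff_eq Fact.out Fact.out).1
        ((Fact.out : b.Prime).dvd_of_dvd_pow (hk ▸ hd.trans hMi))).symm
    have hMne : F.ker ≠ ⊤ := fun e => hne (MonoidHom.ext fun g => by
      rw [← hFT, MonoidHom.one_apply, ← MonoidHom.mem_ker, e]; exact Subgroup.mem_top _)
    rcases lack_normal hs hG hb F.ker hMne with hl | hl | hl
    swap; · exact hb.dy (lack_of_normal F.ker inferInstance hl (hqr' hb.hxy))
    swap; · exact hb.dz (lack_of_normal F.ker inferInstance hl (hqr' hb.hxz))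
    obtain ⟨P, hPn, hPa, -, hPi⟩ := hl.exists_sylow (inferInstance : Group.IsSolvable F.ker)
    have hA : ∀ a b : T, w₀ a = 1 → w₀ b = 1 → ⁅(a : G), (b : G)⁆ = 1 := by
      have key : ∀ a : T, ∀ ha : w₀ a = 1,
          (⟨(a : G), MonoidHom.mem_ker.2 ((hFT a).trans ha)⟩ : F.ker) ∈ P := fun a ha =>
        mem_of_pow_order P hPi (k := k) (Subtype.ext (by
          show (a : G) ^ t ^ k = 1
          rw [← hk]; exact h.pow_T a.2))
      intro a b ha hb'
      rw [commutatorElement_eq_one_iff_mul_comm]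
      exact congrArg Subtype.val (hPa _ (key a ha) _ (key b hb'))
    have hcA : ∀ x ∈ S, ∀ g : T, w₀ ⟨⁅((x : L) : G), (g : G)⁆, hT_conj x g⟩ = 1 := by
      intro x hx g
      rw [show (⟨⁅((x : L) : G), (g : G)⁆, hT_conj x g⟩ : T) =
        ⟨(x : G) * g * (x : G)⁻¹, h.normalT.conj_mem g g.2 _⟩ * g⁻¹ from Subtype.ext (commutatorElement_def _ _),
        map_mul, fix_apply (hw₀ x hx) g, ← map_mul, mul_inv_cancel, map_one]
    -- `A = ker w₀` is fixed modulo `N`
    have hAD : ∀ g : T, w₀ g = 1 → InD g := by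
      intro g hg
      refine hDstep g fun x hx hc => ?_
      refine hrad μ₀ hμ₀ _ fun a => ?_
      set c : T := ⟨⁅((x : L) : G), (g : G)⁆, hc⟩ with hcdef
      have hpair : ∀ u v y : T, μ₀ ⟨⁅((u * v : T) : G), (y : G)⁆, h.comm _ (u * v).2 _ y.2⟩ =
          μ₀ ⟨⁅(v : G), (y : G)⁆, h.comm _ v.2 _ y.2⟩ * μ₀ ⟨⁅(u : G), (y : G)⁆, h.comm _ u.2 _ y.2⟩ := by
        intro u v y
        rw [← map_mul]
        refine congrArg μ₀ (Subtype.ext ?_)
        show ⁅(u : G) * v, (y : G)⁆ = ⁅(v : G), (y : G)⁆ * ⁅(u : G), (y : G)⁆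
        have e : (u : G) * ⁅(v : G), (y : G)⁆ * (u : G)⁻¹ = ⁅(v : G), (y : G)⁆ := by
          rw [h.central _ (h.comm _ v.2 _ y.2) _ u.2, mul_inv_cancel_right]
        calc ⁅(u : G) * v, (y : G)⁆ = (u * ⁅(v : G), (y : G)⁆ * (u : G)⁻¹) * ⁅(u : G), (y : G)⁆ := by
              simp only [commutatorElement_def]; group
          _ = _ := by rw [e]
      set xg : T := ⟨(x : G) * g * (x : G)⁻¹, h.normalT.conj_mem g g.2 _⟩ with hxg
      set a' : T := ⟨(x : G)⁻¹ * a * (x : G), by simpa using h.normalT.conj_mem a a.2 (x : G)⁻¹⟩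
        with ha'
      have hcxg : c * g = xg := Subtype.ext (by
        show ⁅((x : L) : G), (g : G)⁆ * g = (x : G) * g * (x : G)⁻¹
        rw [commutatorElement_def, inv_mul_cancel_right])
      have e1 : μ₀ ⟨⁅(xg : G), (a : G)⁆, h.comm _ xg.2 _ a.2⟩ =
          μ₀ ⟨⁅(g : G), (a' : G)⁆, h.comm _ g.2 _ a'.2⟩ := by
        rw [← fix_apply (hSV x hx μ₀) ⟨⁅(g : G), (a' : G)⁆, h.comm _ g.2 _ a'.2⟩]
        refine congrArg μ₀ (Subtype.ext ?_)
        show ⁅(x : G) * g * (x : G)⁻¹, (a : G)⁆ =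
          (x : G) * ⁅(g : G), (x : G)⁻¹ * a * (x : G)⁆ * (x : G)⁻¹
        simp only [commutatorElement_def]; group
      have haa : w₀ (a⁻¹ * a') = 1 := by
        have h1 : w₀ a = w₀ a' := by
          rw [← fix_apply (hw₀ x hx) a']
          refine congrArg w₀ (Subtype.ext ?_)
          show (a : G) = (x : G) * ((x : G)⁻¹ * a * x) * (x : G)⁻¹
          group
        rw [map_mul, map_inv, h1, inv_mul_cancel]
      have e2 : ⁅(g : G), (a' : G)⁆ = ⁅(g : G), (a : G)⁆ := by
        have h1 := hA g (a⁻¹ * a') hg haa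
        rw [commutatorElement_eq_one_iff_mul_comm] at h1
        have h2 : (a' : G) = a * ((a⁻¹ * a' : T) : G) := by
          show (a' : G) = a * ((a : G)⁻¹ * a')
          group
        generalize ((a⁻¹ * a' : T) : G) = e at h1 h2
        rw [h2]
        simp only [commutatorElement_def]
        calc (g : G) * (a * e) * (g : G)⁻¹ * (a * e)⁻¹
            = (g : G) * a * ((g : G)⁻¹ * (g * e)) * (g : G)⁻¹ * (e⁻¹ * (a : G)⁻¹) := by group
          _ = (g : G) * a * (g : G)⁻¹ * (a : G)⁻¹ := by rw [h1]; group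
      have e3 := hpair c g a
      rw [show μ₀ ⟨⁅((c * g : T) : G), (a : G)⁆, h.comm _ (c * g).2 _ a.2⟩ =
        μ₀ ⟨⁅(g : G), (a : G)⁆, h.comm _ g.2 _ a.2⟩ from
          (congrArg μ₀ (Subtype.ext (by rw [hcxg]))).trans (e1.trans (congrArg μ₀ (Subtype.ext e2)))]
        at e3
      exact mul_eq_left.1 e3.symm
    obtain ⟨w', hw'⟩ := hmoved
    refine hw' fun x hx => ?_
    apply MonoidHom.ext
    intro g
    have hgD : InD g := hDstep g fun x hx hc => hAD _ (hcA x hx g)
    exact h.act_eq_of_bracket w' (hgD x⁻¹ (inv_mem hx))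
  -- consequences
  have hD : ∀ g : T, InD g → (g : G) ∈ N := by
    intro g hg
    refine (Subgroup.mem_subgroupOf (H := N) (K := T) (h := g)).1 ?_
    refine mem_of_forall_linear (N.subgroupOf T) (fun a b => h.comm a a.2 b b.2) fun w => ?_
    have := Fintype.ofFinite (S : Subgroup L)
    have hp : (∏ x : (S : Subgroup L), dualAct T L (x : L) w) = 1 := by
      refine hW0 _ fun y hy => ?_
      rw [map_prod]
      exact Fintype.prod_equiv (Equiv.mulLeft (⟨y, hy⟩ : (S : Subgroup L))) _ _ fun x => by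
        rw [← MulAut.mul_apply, ← map_mul]; rfl
    have h1 := DFunLike.congr_fun hp g
    rw [MonoidHom.finsetProd_apply, MonoidHom.one_apply] at h1
    have hval : ∀ x : (S : Subgroup L), dualAct T L (x : L) w g = w g := by
      intro x
      exact h.act_eq_of_bracket w (hg _ (inv_mem x.2))
    rw [Finset.prod_congr rfl fun x _ => hval x, Finset.prod_const, Finset.card_univ,
      ← Nat.card_eq_fintype_card] at h1
    have h4 := pow_gcd_eq_one.2 ⟨h1, hpT w g⟩
    rwa [Nat.Coprime.gcd_eq_one (Nat.Coprime.coprime_dvd_left (Subgroup.card_subgroup_dvd_card _)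
      h.coprime_L.symm), pow_one] at h4
  obtain ⟨w₁, hw₁⟩ := hmoved
  haveI : Nontrivial (T →* ℂˣ) := ⟨⟨w₁, 1, fun e => hw₁ (e ▸ fun x _ => map_one _)⟩⟩
  have hRW : SpreadM (V := T →* ℂˣ) (dualAct T L) r := fun w hw =>
    hspreadW w fun hc => hw (hW0 w hc)
  obtain ⟨R⟩ := (inferInstance : Nonempty (Sylow r L))
  have hn1 : 1 < Nat.card (Sylow r L) := by
    by_contra hle
    haveI : Subsingleton (Sylow r L) := (Finite.card_le_one_iff_subsingleton).1 (not_lt.1 hle)
    haveI : (R : Subgroup L).Normal := R.normal_of_subsingleton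
    obtain ⟨R', -, hR'a, -⟩ := h.sylow_in hs hπ hker hsurj hb.hxz hb.nxz hμ₀
    obtain rfl := Subsingleton.elim R' R
    exact hb.dz (h.lack_of_fix hb.hxz R' hR'a (fun x hx μ => hR.fix_all R' hx μ)
      fun x hx w => hRW.fix_all R' hx w)
  -- a fixed element outside `N`
  obtain ⟨w, hw, hwR⟩ := hRW.exists_fixed R
  haveI : (N.subgroupOf T).Normal := Subgroup.normal_subgroupOf
  have hwN : ∀ a : T, (a : G) ∈ N → w a = 1 := fun a ha => h.lin_eq_one w ha
  obtain ⟨u, huN, huR, hwu⟩ : ∃ u : T, (u : G) ∉ N ∧ (∀ y ∈ R, ⁅((y : L) : G), (u : G)⁆ ∈ N) ∧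
      w u ≠ 1 := by
    letI : CommGroup (T ⧸ N.subgroupOf T) :=
      { (inferInstance : Group (T ⧸ N.subgroupOf T)) with
        mul_comm := fun a b => by
          obtain ⟨a, rfl⟩ := QuotientGroup.mk'_surjective _ a
          obtain ⟨b, rfl⟩ := QuotientGroup.mk'_surjective _ b
          rw [← commutatorElement_eq_one_iff_mul_comm, ← map_commutatorElement,
            QuotientGroup.mk'_apply, QuotientGroup.eq_one_iff]
          exact h.comm a a.2 b b.2 }
    obtain ⟨g, hg⟩ : ∃ g, w g ≠ 1 := by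
      by_contra hc
      push Not at hc
      exact hw (MonoidHom.ext hc)
    have := Fintype.ofFinite (R : Subgroup L)
    let c : L → T → T := fun l a => ⟨(l : G) * a * (l : G)⁻¹, h.normalT.conj_mem a a.2 _⟩
    let f : ∀ l : L, (T ⧸ N.subgroupOf T) →* (T ⧸ N.subgroupOf T) := fun l =>
      QuotientGroup.map _ _ (MonoidHom.mk' (c l) fun a b => Subtype.ext (by
        show (l : G) * (a * b) * (l : G)⁻¹ = (l * a * (l : G)⁻¹) * (l * b * (l : G)⁻¹)
        group)) fun a ha => h.normalN.conj_mem _ ha _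
    let P : T ⧸ N.subgroupOf T := ∏ y : (R : Subgroup L), (QuotientGroup.mk (c (y : L) g) : T ⧸ N.subgroupOf T)
    obtain ⟨u, hu⟩ := QuotientGroup.mk_surjective P
    have hfix : ∀ y₀ ∈ R, f y₀ P = P := by
      intro y₀ hy₀
      rw [map_prod]
      refine Fintype.prod_equiv (Equiv.mulLeft (⟨y₀, hy₀⟩ : (R : Subgroup L))) _ _ fun y => ?_
      show (QuotientGroup.mk (c y₀ (c (y : L) g)) : T ⧸ N.subgroupOf T) =
        QuotientGroup.mk (c ((y₀ * y : L)) g)
      congr 1
      refine Subtype.ext ?_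
      show (y₀ : G) * (((y : L) : G) * g * ((y : L) : G)⁻¹) * (y₀ : G)⁻¹ =
        ((y₀ * y : L) : G) * g * ((y₀ * y : L) : G)⁻¹
      rw [Subgroup.coe_mul]; group
    let wb : (T ⧸ N.subgroupOf T) →* ℂˣ := QuotientGroup.lift _ w fun a ha => MonoidHom.mem_ker.2 (hwN a ha)
    have hwu : w u = w g ^ Nat.card (R : Subgroup L) := by
      have : wb (QuotientGroup.mk u) = wb P := congrArg wb hu
      rw [map_prod, Finset.prod_congr rfl (s₂ := Finset.univ) (g := fun _ => w g)
        (fun (y : (R : Subgroup L)) _ => show wb (QuotientGroup.mk (c (y : L) g)) = w g from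
        fix_apply (hwR (y : L) y.2) g), Finset.prod_const, Finset.card_univ, ← Nat.card_eq_fintype_card] at this
      exact this
    have hwu1 : w u ≠ 1 := by
      rw [hwu]
      intro h1
      have h4 := pow_gcd_eq_one.2 ⟨h1, hpT w g⟩
      rw [Nat.Coprime.gcd_eq_one (Nat.Coprime.coprime_dvd_left (Subgroup.card_subgroup_dvd_card _)
        h.coprime_L.symm), pow_one] at h4
      exact hg h4
    refine ⟨u, fun hn => hwu1 (hwN u hn), fun y hy => ?_, hwu1⟩
    have h1 := hfix y hy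
    rw [← hu] at h1
    have h2 : (c y u)⁻¹ * u ∈ N.subgroupOf T := QuotientGroup.eq.1 h1
    have h3 := h.normalN.conj_mem _ (inv_mem (Subgroup.mem_subgroupOf.1 h2)) (u : G)
    have e : (u : G) * (((c y u)⁻¹ * u : T) : G)⁻¹ * (u : G)⁻¹ = ⁅((y : L) : G), (u : G)⁆ := by
      show (u : G) * (((y : G) * u * (y : G)⁻¹)⁻¹ * u)⁻¹ * (u : G)⁻¹ = _
      rw [commutatorElement_def]; group
    rwa [e] at h3
  -- the commutator map into the fixed characters of `T`
  set CV := fixM (V := N →* ℂˣ) (dualAct N L) (R : Subgroup L) with hCV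
  set CW := fixM (V := T →* ℂˣ) (dualAct T L) (R : Subgroup L) with hCW
  let Ψ : (N →* ℂˣ) → (T →* ℂˣ) := fun μ =>
    MonoidHom.mk' (fun v => μ ⟨⁅(u : G), (v : G)⁆, h.comm _ u.2 _ v.2⟩) fun v v' => by
      rw [← map_mul]
      refine congrArg μ (Subtype.ext ?_)
      show ⁅(u : G), (v : G) * v'⁆ = ⁅(u : G), (v : G)⁆ * ⁅(u : G), (v' : G)⁆
      have e : (v : G) * ⁅(u : G), (v' : G)⁆ * (v : G)⁻¹ = ⁅(u : G), (v' : G)⁆ := by
        rw [h.central _ (h.comm _ u.2 _ v'.2) _ v.2, mul_inv_cancel_right]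
      calc ⁅(u : G), (v : G) * v'⁆
          = ⁅(u : G), (v : G)⁆ * ((v : G) * ⁅(u : G), (v' : G)⁆ * (v : G)⁻¹) := by
            simp only [commutatorElement_def]; group
        _ = _ := by rw [e]
  have hΨ : ∀ μ ∈ CV, Ψ μ ∈ CW := by
    intro μ hμ y hy
    refine MonoidHom.ext fun v => ?_
    show μ ⟨⁅(u : G), ((MulAut.conjNormal ((y : L) : G)⁻¹ : MulAut T) v : G)⁆, _⟩ =
      μ ⟨⁅(u : G), (v : G)⁆, _⟩
    set v' := (MulAut.conjNormal ((y : L) : G)⁻¹ : MulAut T) v with hv'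
    refine (fix_apply (hμ y hy) ⟨⁅(u : G), (v' : G)⁆, h.comm _ u.2 _ v'.2⟩).symm.trans
      (congrArg μ (Subtype.ext ?_))
    show ((y : L) : G) * ⁅(u : G), (v' : G)⁆ * ((y : L) : G)⁻¹ = ⁅(u : G), (v : G)⁆
    rw [hv', MulAut.conjNormal_apply, inv_inv]
    obtain ⟨n, hn, hn'⟩ : ∃ n ∈ N, ((y : L) : G) * u * ((y : L) : G)⁻¹ = n * u :=
      ⟨_, huR y hy, by rw [commutatorElement_def, inv_mul_cancel_right]⟩
    have e4 : n * ⁅(u : G), (v : G)⁆ * n⁻¹ = ⁅(u : G), (v : G)⁆ := by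
      rw [h.N_comm n hn _ (h.comm _ u.2 _ v.2), mul_inv_cancel_right]
    calc ((y : L) : G) * ⁅(u : G), ((y : L) : G)⁻¹ * v * (y : L)⁆ * ((y : L) : G)⁻¹
        = ⁅((y : L) : G) * u * ((y : L) : G)⁻¹, (v : G)⁆ := by simp only [commutatorElement_def]; group
      _ = n * ⁅(u : G), (v : G)⁆ * (v * n⁻¹ * (v : G)⁻¹) := by
          rw [hn']; simp only [commutatorElement_def]; group
      _ = n * ⁅(u : G), (v : G)⁆ * n⁻¹ := by
          rw [h.central _ (inv_mem hn) _ v.2, mul_inv_cancel_right]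
      _ = ⁅(u : G), (v : G)⁆ := e4
  have hinj : ∀ μ μ' : N →* ℂˣ, Ψ μ = Ψ μ' → μ = μ' := by
    intro μ μ' e
    by_contra hne
    refine huN (hD u (hrad (μ * μ'⁻¹) (fun e' => hne (mul_inv_eq_one.1 e')) u fun a => ?_))
    have := DFunLike.congr_fun e a
    show μ ⟨⁅(u : G), (a : G)⁆, _⟩ * (μ' ⟨⁅(u : G), (a : G)⁆, _⟩)⁻¹ = 1
    rw [mul_inv_eq_one]
    exact this
  have hlt : Nat.card CV < Nat.card CW := by
    refine lt_of_le_of_ne (Nat.card_le_card_of_injective (fun μ : CV => (⟨Ψ μ, hΨ μ μ.2⟩ : CW))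
      fun μ μ' e => Subtype.ext (hinj _ _ (congrArg Subtype.val e))) fun heq => ?_
    have hbij := (Nat.bijective_iff_injective_and_card fun μ : CV => (⟨Ψ μ, hΨ μ μ.2⟩ : CW)).2
      ⟨fun μ μ' e => Subtype.ext (hinj _ _ (congrArg Subtype.val e)), heq⟩
    obtain ⟨μ, hμ⟩ := hbij.2 ⟨w, hwR⟩
    apply hwu
    have h1 := DFunLike.congr_fun (congrArg Subtype.val hμ) u
    rw [← h1]
    show (μ : N →* ℂˣ) ⟨⁅(u : G), (u : G)⁆, _⟩ = 1
    rw [show (⟨⁅(u : G), (u : G)⁆, h.comm _ u.2 _ u.2⟩ : N) = 1 from Subtype.ext (commutatorElement_self _),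
      map_one]
  have hpV : IsPGroup t (N →* ℂˣ) := fun μ => ⟨k, MonoidHom.ext fun n => by
    rw [MonoidHom.pow_apply, ← map_pow, MonoidHom.one_apply, show n ^ t ^ k = 1 from Subtype.ext (by
      rw [← hk]; exact h.pow_T (h.le n.2)), map_one]⟩
  have hpW : IsPGroup t (T →* ℂˣ) := fun v => ⟨k, MonoidHom.ext fun g => by
    rw [MonoidHom.pow_apply, ← hk, hpT, MonoidHom.one_apply]⟩
  obtain ⟨n, hn⟩ := IsPGroup.iff_card.1 hpV
  obtain ⟨m, hm⟩ := IsPGroup.iff_card.1 hpW
  obtain ⟨a, ha⟩ := IsPGroup.iff_card.1 (hpV.to_subgroup CV)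
  obtain ⟨b, hb'⟩ := IsPGroup.iff_card.1 (hpW.to_subgroup CW)
  have ht2 : 2 ≤ t := (Fact.out : t.Prime).two_le
  have ha0 : 0 < a := by
    obtain ⟨μ, hμ, hμR⟩ := hR.exists_fixed R
    rcases Nat.eq_zero_or_pos a with rfl | h0
    · rw [pow_zero] at ha
      have hbot := Subgroup.card_eq_one.1 ha
      have hμ' : μ ∈ CV := hμR
      rw [hbot, Subgroup.mem_bot] at hμ'
      exact absurd hμ' hμ
    · exact h0
  have hab : a < b := by
    rw [ha, hb'] at hlt
    exact (Nat.pow_lt_pow_iff_right ht2).1 hlt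
  have c1 := count hR R
  have c2 := count hRW R
  rw [← hCV, ha, hn] at c1
  rw [← hCW, hb', hm] at c2
  exact false_of_two_counts ht2 ha0 hab hn1 c1 c2

end Cfsg.Agent.BC86.Palfy
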