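import Cfsg.Agent.BC86.Palfy.Setup
import Cfsg.Agent.S4449

/-!
A normal Sylow subgroup of class two with a complement: invariant characters over the characters
of the centre part.
-/

namespace Cfsg.Agent.BC86.Palfy

open MulAction Cfsg.Agent.CharDeep Cfsg.Agent.BC86.RelGraph
open scoped commutatorElement

attribute [local instance] fnAction

universe u

/-- A bracket fixed by an element of coprime order is trivial modulo a normal subgroup. -/
theorem mem_of_bracket {G : Type*} [Group G] (Z : Subgroup G) [Z.Normal] {x g : G}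
    (h : ⁅x, ⁅x, g⁆⁆ ∈ Z) {m k : ℕ} (hx : x ^ m = 1) (hc : ⁅x, g⁆ ^ k = 1) (hmk : m.Coprime k) :
    ⁅x, g⁆ ∈ Z := by
  rw [← QuotientGroup.eq_one_iff] at h ⊢
  set f := QuotientGroup.mk' Z with hf
  show f ⁅x, g⁆ = 1
  have h1 : ⁅f x, f ⁅x, g⁆⁆ = 1 := by rw [← map_commutatorElement]; exact h
  set C := f ⁅x, g⁆ with hC
  have hXC : f x * C * (f x)⁻¹ = C := by
    rw [commutatorElement_eq_one_iff_mul_comm.1 h1, mul_inv_cancel_right]
  have hXG : f x * f g * (f x)⁻¹ = C * f g := by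
    rw [hC, map_commutatorElement, commutatorElement_def]; group
  have hXCj : ∀ j : ℕ, f x * C ^ j * (f x)⁻¹ = C ^ j := fun j => by
    rw [← conj_pow, hXC]
  have hj : ∀ j : ℕ, (f x) ^ j * f g * ((f x) ^ j)⁻¹ = C ^ j * f g := by
    intro j
    induction j with
    | zero => simp
    | succ j ih =>
      calc (f x) ^ (j + 1) * f g * ((f x) ^ (j + 1))⁻¹
          = f x * ((f x) ^ j * f g * ((f x) ^ j)⁻¹) * (f x)⁻¹ := by rw [pow_succ']; group
        _ = (f x * C ^ j * (f x)⁻¹) * (f x * f g * (f x)⁻¹) := by rw [ih]; group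
        _ = C ^ (j + 1) * f g := by rw [hXCj, hXG, pow_succ, mul_assoc]
  have hm := hj m
  rw [← map_pow, hx, map_one, one_mul, inv_one, mul_one] at hm
  have hCm : C ^ m = 1 := mul_eq_right.1 hm.symm
  have hCk : C ^ k = 1 := by rw [hC, ← map_pow, hc, map_one]
  have := pow_gcd_eq_one.2 ⟨hCm, hCk⟩
  rwa [Nat.Coprime.gcd_eq_one hmk, pow_one] at this

/-- Linear characters separate the elements modulo a subgroup containing the commutators. -/
theorem mem_of_forall_linear {H : Type*} [Group H] [Finite H] (K : Subgroup H) [K.Normal]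
    (hK : ∀ a b : H, ⁅a, b⁆ ∈ K) {g : H} (h : ∀ w : H →* ℂˣ, w g = 1) : g ∈ K := by
  letI : CommGroup (H ⧸ K) :=
    { (inferInstance : Group (H ⧸ K)) with
      mul_comm := fun a b => by
        obtain ⟨x, rfl⟩ := QuotientGroup.mk'_surjective K a
        obtain ⟨y, rfl⟩ := QuotientGroup.mk'_surjective K b
        rw [← commutatorElement_eq_one_iff_mul_comm, ← map_commutatorElement, QuotientGroup.mk'_apply,
          QuotientGroup.eq_one_iff]
        exact hK x y }
  rw [← QuotientGroup.eq_one_iff]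
  refine (CommGroup.forall_apply_eq_apply_iff (H ⧸ K) (M := ℂ)).1 fun φ => ?_
  rw [map_one]
  exact h (φ.comp (QuotientGroup.mk' K))

variable {G : Type u} [Group G] [Finite G]

/-- A normal Sylow `t`-subgroup `T` of class two, `N` its derived subgroup, `L` a complement. -/
structure CB (t : ℕ) (N T L : Subgroup G) : Prop where
  normalN : N.Normal
  normalT : T.Normal
  le : N ≤ T
  pT : IsPGroup t T
  idx : ¬ t ∣ T.index
  central : ∀ n ∈ N, ∀ x ∈ T, x * n = n * x
  comm : ∀ a ∈ T, ∀ b ∈ T, ⁅a, b⁆ ∈ N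
  gen : ∀ φ : N →* ℂˣ, (∀ (a : G) (ha : a ∈ T) (b : G) (hb : b ∈ T),
    φ ⟨⁅a, b⁆, comm a ha b hb⟩ = 1) → φ = 1
  compl : L.IsComplement' T
  ne_bot : N ≠ ⊥

/-- A fixed linear character is invariant under conjugation. -/
theorem fix_apply {N L : Subgroup G} [N.Normal] {l : L} {φ : N →* ℂˣ}
    (h : dualAct N L l φ = φ) (n : N) :
    φ ⟨(l : G) * n * (l : G)⁻¹, Subgroup.Normal.conj_mem ‹_› _ n.2 _⟩ = φ n := by
  have h1 := congrFun (mem_stabilizer_iff.1 (inv_mem (dualAct_eq_iff.1 h))) n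
  rw [smul_fn_apply, inv_inv] at h1
  exact (congrArg φ (Subtype.ext (MulAut.conjNormal_apply (l : G) n).symm)).trans (Units.ext h1)

namespace CB

variable {t : ℕ} [Fact t.Prime] {N T L : Subgroup G} (h : CB t N T L)
include h

theorem coprime : (Nat.card T).Coprime T.index := by
  obtain ⟨k, hk⟩ := IsPGroup.iff_card.1 h.pT
  rw [hk]
  exact Nat.Coprime.pow_left k ((Fact.out : t.Prime).coprime_iff_not_dvd.2 h.idx)

theorem card_L : Nat.card L = T.index := h.compl.index_eq_card.symm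

theorem coprime_L : (Nat.card T).Coprime (Nat.card L) := h.card_L ▸ h.coprime

theorem N_comm : ∀ a ∈ N, ∀ b ∈ N, a * b = b * a := fun a ha b hb => h.central b hb a (h.le ha)

theorem pow_L (l : L) : (l : G) ^ Nat.card L = 1 := by
  rw [← SubgroupClass.coe_pow, pow_card_eq_one', OneMemClass.coe_one]

theorem pow_T {g : G} (hg : g ∈ T) : g ^ Nat.card T = 1 :=
  congrArg Subtype.val (pow_card_eq_one' (x := (⟨g, hg⟩ : T)))

omit [Fact t.Prime] in
/-- The invariant character over a character of `N`. -/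
theorem exists_char [Fact t.Prime] [N.Normal] [T.Normal] (hs : Group.IsSolvable G) {μ : N →* ℂˣ}
    (hμ : μ ≠ 1) :
    ∃ (φ : T → ℂ) (d : ℕ), Cfsg.IsIrrCharacter T φ ∧ φ 1 = d ∧ d ∣ Nat.card T ∧ t ∣ d ∧
      (∀ n : N, φ ⟨(n : G), h.le n.2⟩ = (d : ℂ) * (μ n : ℂ)) ∧
      ∀ l : L, (l : G) ∈ stabilizer G φ ↔ (l : G) ∈ stabilizer G (coeFn N μ) := by
  classical
  have := Fintype.ofFinite G
  have := Fintype.ofFinite T
  have := Fintype.ofFinite N
  set S := stabilizer G (coeFn N μ) ⊓ L with hS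
  have hirr : Cfsg.IsIrrCharacter N (coeFn N μ) := CharCore.isIrrCharacter_hom μ
  haveI := hs
  obtain ⟨χ, hne, hinv⟩ := S4449.result T S N (fun s _ g hg => h.normalT.conj_mem g hg s) h.le
    (fun g _ n hn => h.normalN.conj_mem n hn g) (fun s _ n hn => h.normalN.conj_mem n hn s)
    (h.coprime_L.coprime_dvd_right (Subgroup.card_dvd_of_le inf_le_right)) inferInstance
    ⟨_, hirr⟩ (fun s hs' g g' hg' => by
      have h1 := congrFun (mem_stabilizer_iff.1 (inv_mem hs'.1)) g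
      rw [smul_fn_apply, inv_inv] at h1
      refine Eq.trans (congrArg (coeFn N μ) (Subtype.ext ?_)) h1
      rw [MulAut.conjNormal_apply]; exact hg')
  obtain ⟨d, hd0, hd⟩ := CharCore.IsIrrCharacter.exists_degree χ.2
  have hdT : d ∣ Nat.card T := by
    have hd' := Deg.degree_of_eq hd
    have := Deg.degree_dvd_index χ (⊥ : Subgroup T) (fun a ha b hb => by
      rw [Subgroup.mem_bot.1 ha, Subgroup.mem_bot.1 hb])
    rwa [hd', Subgroup.index_bot] at this
  -- the restriction to `N`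
  haveI : (N.subgroupOf T).Normal := Subgroup.normal_subgroupOf
  have := Fintype.ofFinite (N.subgroupOf T)
  set e := Subgroup.subgroupOfEquivOfLe h.le with he
  have hres : ∀ n : N, (χ : T → ℂ) ⟨(n : G), h.le n.2⟩ = (d : ℂ) * (μ n : ℂ) := by
    have hθ : Cfsg.IsIrrCharacter (N.subgroupOf T) (fun x => coeFn N μ (e x)) :=
      CharCore.isIrrCharacter_comp_surjective hirr e.toMonoidHom e.surjective
    have hI : Ext.Inv (N.subgroupOf T) (fun x => coeFn N μ (e x)) := fun g n => by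
      refine congrArg (coeFn N μ) (Subtype.ext ?_)
      show (g : G) * ((n : T) : G) * (g : G)⁻¹ = ((n : T) : G)
      rw [h.central ((n : T) : G) n.2 (g : G) g.2, mul_inv_cancel_right]
    have hne' : Cfsg.classInner (fun n : N.subgroupOf T => (χ : T → ℂ) n)
        (fun x => coeFn N μ (e x)) ≠ 0 := by
      refine fun h0 => hne (Eq.trans ?_ h0)
      rw [Cfsg.classInner, Cfsg.classInner, Nat.card_congr e.toEquiv]
      congr 1
      exact (Fintype.sum_equiv e.toEquiv _ _ fun x => rfl).symm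
    have hr := Ext.restrict_eq_smul (N.subgroupOf T) hI hθ χ.2 hne'
    set c := Cfsg.classInner (fun n : N.subgroupOf T => (χ : T → ℂ) n) (fun x => coeFn N μ (e x))
    have h1 := congrFun hr 1
    simp only [Pi.smul_apply, smul_eq_mul, OneMemClass.coe_one, map_one, hd] at h1
    rw [show coeFn N μ 1 = 1 by simp [coeFn], mul_one] at h1
    intro n
    have h2 := congrFun hr (e.symm n)
    simp only [Pi.smul_apply, smul_eq_mul, MulEquiv.apply_symm_apply, ← h1] at h2
    exact h2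
  have hd1 : d ≠ 1 := by
    intro e1
    subst e1
    obtain ⟨f, hf⟩ := CharCore.IsCharacter.exists_hom_of_degree_one
      (CharCore.irr_isCharacter χ) (by rw [hd, Nat.cast_one])
    refine hμ (h.gen μ fun a ha b hb => Units.ext ?_)
    have h1 := hres ⟨⁅a, b⁆, h.comm a ha b hb⟩
    rw [Nat.cast_one, one_mul] at h1
    rw [← h1, hf]
    show ((f ⟨⁅a, b⁆, _⟩ : ℂˣ) : ℂ) = ((1 : ℂˣ) : ℂ)
    congr 1
    have : (⟨⁅a, b⁆, h.le (h.comm a ha b hb)⟩ : T) = ⁅(⟨a, ha⟩ : T), ⟨b, hb⟩⁆ := rfl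
    rw [this, map_commutatorElement, commutatorElement_eq_one_iff_mul_comm]
    exact mul_comm _ _
  refine ⟨χ, d, χ.2, hd, hdT, ?_, hres, fun l => ⟨fun hl => ?_, fun hl => ?_⟩⟩
  · obtain ⟨k, hk⟩ := IsPGroup.iff_card.1 h.pT
    obtain ⟨j, -, hj⟩ := (Nat.dvd_prime_pow (Fact.out : t.Prime)).1 (hk ▸ hdT)
    rcases j with _ | j
    · exact absurd (hj.trans (pow_zero t)) hd1
    · exact hj ▸ dvd_pow_self t j.succ_ne_zero
  · rw [mem_stabilizer_iff]
    funext n
    rw [smul_fn_apply]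
    have h1 := congrFun (mem_stabilizer_iff.1 hl) ⟨(n : G), h.le n.2⟩
    rw [smul_fn_apply, hres n,
      show (MulAut.conjNormal (l : G)⁻¹ : MulAut T) ⟨(n : G), h.le n.2⟩ =
        ⟨((MulAut.conjNormal (l : G)⁻¹ : MulAut N) n : G), h.le (Subtype.prop _)⟩ from
        Subtype.ext (by rw [MulAut.conjNormal_apply, MulAut.conjNormal_apply]), hres] at h1
    exact mul_left_cancel₀ (Nat.cast_ne_zero.2 hd0.ne') h1
  · rw [mem_stabilizer_iff]
    funext g
    rw [smul_fn_apply]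
    refine hinv ((l : G)⁻¹) (Subgroup.mem_inf.2 ⟨inv_mem hl, inv_mem l.2⟩) g _ ?_
    rw [MulAut.conjNormal_apply]

/-- A prime forming no pair with `t` spreads over the characters of `N`. -/
theorem sylow_in [N.Normal] [T.Normal] (hs : Group.IsSolvable G) {π : G →* L}
    (hπ : ∀ l : L, π (l : G) = l) (hker : π.ker = T) (hsurj : Function.Surjective π) {b : ℕ}
    [Fact b.Prime] (htb : t ≠ b) (hnp : NoPair G t b) {μ : N →* ℂˣ} (hμ : μ ≠ 1) :
    ∃ S : Sylow b L, (S : Subgroup L) ≤ (stabilizer G (coeFn N μ)).comap L.subtype ∧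
      (∀ x ∈ S, ∀ y ∈ S, x * y = y * x) ∧
      ∀ S' : Sylow b L, (S' : Subgroup L) ≤ (stabilizer G (coeFn N μ)).comap L.subtype → S' = S := by
  haveI := hs
  have := Fintype.ofFinite T
  obtain ⟨φ, d, hφ, hd, hdT, htd, -, hstab⟩ := h.exists_char hs hμ
  obtain ⟨ψ, hψ, hext⟩ := exists_coprime_ext T hs h.coprime hφ hd hdT
  obtain ⟨S, h1, h2, h3⟩ := exists_sylow_in T inferInstance π hsurj hker hφ hd hψ hext htb hnp
    (dvd_mul_of_dvd_right htd _)
  have hmap : (stabilizer G φ).map π = (stabilizer G (coeFn N μ)).comap L.subtype :=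
    Subgroup.ext fun l => (mem_map_proj hπ hker (le_stabilizer T hφ)).trans (hstab l)
  rw [hmap] at h1 h3
  exact ⟨S, h1, h2, h3⟩

/-- An element fixing the characters of both layers centralizes `T`. -/
theorem centralize [N.Normal] [T.Normal] {l : L}
    (hV : ∀ μ : N →* ℂˣ, dualAct N L l μ = μ) (hW : ∀ w : T →* ℂˣ, dualAct T L l w = w)
    {g : G} (hg : g ∈ T) : (l : G) * g = g * l := by
  have hTl : (l : G) * g * (l : G)⁻¹ ∈ T := h.normalT.conj_mem g hg _
  have hcT : ⁅(l : G), g⁆ ∈ T := by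
    rw [commutatorElement_def]; exact mul_mem hTl (inv_mem hg)
  have hcN : ⁅(l : G), g⁆ ∈ N := by
    refine (Subgroup.mem_subgroupOf (H := N) (K := T) (h := ⟨_, hcT⟩)).1 ?_
    refine mem_of_forall_linear (N.subgroupOf T) (fun a b => h.comm a a.2 b b.2) fun w => ?_
    have e : (⟨⁅(l : G), g⁆, hcT⟩ : T) = ⟨(l : G) * g * (l : G)⁻¹, hTl⟩ * (⟨g, hg⟩ : T)⁻¹ :=
      Subtype.ext (commutatorElement_def _ _)
    rw [e, map_mul, fix_apply (hW w) ⟨g, hg⟩, ← map_mul, mul_inv_cancel, map_one]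
  have h1 : ⁅(l : G), ⁅(l : G), g⁆⁆ ∈ (⊥ : Subgroup G) := by
    rw [Subgroup.mem_bot, commutatorElement_eq_one_iff_mul_comm]
    exact commute_of_fix_all N L h.N_comm hV hcN
  have h2 := mem_of_bracket (⊥ : Subgroup G) h1 (h.pow_L l) (h.pow_T hcT) h.coprime_L.symm
  exact commutatorElement_eq_one_iff_mul_comm.1 (Subgroup.mem_bot.1 h2)

/-- A unique Sylow subgroup fixing all characters of both layers is a lacking prime. -/
theorem lack_of_fix [N.Normal] [T.Normal] {b : ℕ} [Fact b.Prime] (htb : t ≠ b) (S : Sylow b L)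
    [(S : Subgroup L).Normal] (hS : ∀ x ∈ S, ∀ y ∈ S, x * y = y * x)
    (hV : ∀ x ∈ S, ∀ μ : N →* ℂˣ, dualAct N L x μ = μ)
    (hW : ∀ x ∈ S, ∀ w : T →* ℂˣ, dualAct T L x w = w) : Lack G b := by
  set A := (S : Subgroup L).map L.subtype with hA
  haveI : A.Normal := by
    rw [← Subgroup.normalizer_eq_top_iff, eq_top_iff, ← h.compl.sup_eq_top]
    refine sup_le ?_ ?_
    · intro x hx
      rw [Subgroup.mem_normalizer_iff]
      have key : ∀ z : L, (z ∈ (S : Subgroup L) ↔ (⟨x, hx⟩ : L) * z * ⟨x, hx⟩⁻¹ ∈ (S : Subgroup L)) :=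
        fun z => ⟨fun hz => Subgroup.Normal.conj_mem ‹_› z hz _, fun hz => by
          have h1 : z = (⟨x, hx⟩ : L)⁻¹ * (⟨x, hx⟩ * z * ⟨x, hx⟩⁻¹) * (⟨x, hx⟩ : L)⁻¹⁻¹ := by group
          exact h1.symm ▸ Subgroup.Normal.conj_mem ‹(S : Subgroup L).Normal› _ hz (⟨x, hx⟩ : L)⁻¹⟩
      intro y
      constructor
      · rintro ⟨z, hz, rfl⟩
        exact ⟨_, (key z).1 hz, rfl⟩
      · rintro ⟨z, hz, hzy⟩
        refine ⟨(⟨x, hx⟩ : L)⁻¹ * z * ⟨x, hx⟩, (key _).2 ((show z = (⟨x, hx⟩ : L) * (⟨x, hx⟩⁻¹ * z * ⟨x, hx⟩) * (⟨x, hx⟩ : L)⁻¹ by group) ▸ hz), ?_⟩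
        show x⁻¹ * (z : G) * x = y
        rw [show (z : G) = x * y * x⁻¹ from hzy]
        group
    · intro g hg
      rw [Subgroup.mem_normalizer_iff]
      have key : ∀ z ∈ A, g * z * g⁻¹ = z := by
        rintro _ ⟨z, hz, rfl⟩
        show g * (z : G) * g⁻¹ = (z : G)
        rw [← h.centralize (hV z hz) (hW z hz) hg, mul_inv_cancel_right]
      intro y
      refine ⟨fun hy => (key y hy).symm ▸ hy, fun hy => ?_⟩
      have h2 := key _ hy
      exact (mul_left_cancel (mul_right_cancel h2) : g * y * g⁻¹ = y) ▸ hy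
  refine lack_of_abelian A ?_ ?_
  · rintro _ ⟨x, hx, rfl⟩ _ ⟨y, hy, rfl⟩
    exact congrArg Subtype.val (hS x hx y hy)
  · rw [hA, Subgroup.index_map_subtype]
    intro hd
    rcases (Fact.out : b.Prime).dvd_mul.1 hd with hd | hd
    · exact S.not_dvd_index' Subgroup.index_ne_zero_of_finite hd
    · rw [h.compl.symm.index_eq_card] at hd
      obtain ⟨k, hk⟩ := IsPGroup.iff_card.1 h.pT
      exact htb ((Nat.prime_dvd_prime_iff_eq Fact.out Fact.out).1
        ((Fact.out : b.Prime).dvd_of_dvd_pow (hk ▸ hd))).symm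

/-- Linear characters of `T` are trivial on `N`. -/
theorem lin_eq_one (w : T →* ℂˣ) {a : T} (ha : (a : G) ∈ N) : w a = 1 := by
  let φ : N →* ℂˣ := w.comp (Subgroup.inclusion h.le)
  have hφ : φ = 1 := h.gen φ fun a ha b hb' => by
    show w ⟨⁅a, b⁆, _⟩ = 1
    rw [show (⟨⁅a, b⁆, h.le (h.comm a ha b hb')⟩ : T) = ⁅(⟨a, ha⟩ : T), ⟨b, hb'⟩⁆ from rfl,
      map_commutatorElement, commutatorElement_eq_one_iff_mul_comm]
    exact mul_comm _ _
  exact DFunLike.congr_fun hφ ⟨a, ha⟩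

/-- A linear character is fixed on elements fixed modulo `N`. -/
theorem act_eq_of_bracket [T.Normal] (w : T →* ℂˣ) {l : L} {g : T}
    (hl : ⁅((l⁻¹ : L) : G), (g : G)⁆ ∈ N) : dualAct T L l w g = w g := by
  have h1 : w ((MulAut.conjNormal (l : G)⁻¹ : MulAut T) g * g⁻¹) = 1 := by
    refine h.lin_eq_one w ?_
    rw [Subgroup.coe_mul, MulAut.conjNormal_apply, inv_inv, InvMemClass.coe_inv]
    rw [commutatorElement_def, InvMemClass.coe_inv, inv_inv] at hl
    exact hl
  rw [map_mul w, map_inv w] at h1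
  exact mul_inv_eq_one.1 h1

/-- A radical element has non-zero value in a character over `μ`. -/
theorem apply_ne_zero {φ : T → ℂ} (hφ : Cfsg.IsIrrCharacter T φ) {d : ℕ} (hd : φ 1 = d)
    {μ : N →* ℂˣ} (hres : ∀ n : N, φ ⟨(n : G), h.le n.2⟩ = (d : ℂ) * (μ n : ℂ)) {g : T}
    (hrad : ∀ a : T, μ ⟨⁅(g : G), (a : G)⁆, h.comm g g.2 a a.2⟩ = 1) : φ g ≠ 0 := by
  obtain ⟨n, ρ, hρ, rfl⟩ := hφ
  haveI := hρ
  have hd0 : (Module.finrank ℂ (Fin n → ℂ) : ℂ) = d := by rw [← hd, Representation.char_one]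
  have hdne : (d : ℂ) ≠ 0 := by
    obtain ⟨d', hd', hd''⟩ :=
      CharCore.IsIrrCharacter.exists_degree (χ := ρ.character) ⟨n, ρ, hρ, rfl⟩
    rw [← hd, hd'']; exact Nat.cast_ne_zero.2 hd'.ne'
  have hN : ∀ z : T, ∀ hz : (z : G) ∈ N, μ ⟨(z : G), hz⟩ = 1 → ρ z = 1 := by
    intro z hz h1
    obtain ⟨c, hc⟩ := CharClifford.exists_scalar_of_mem_center ρ (z := z)
      (Subgroup.mem_center_iff.2 fun a => Subtype.ext (h.central z hz a a.2))
    have h2 : ρ.character z = c * (d : ℂ) := by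
      rw [← hd0]; exact CharClifford.scalar_eq_of_trace hc
    have h3 := hres ⟨(z : G), hz⟩
    simp only [Subtype.coe_eta] at h3
    rw [h2, h1, Units.val_one, mul_one] at h3
    rw [hc, mul_left_eq_self₀.1 h3 |>.resolve_right hdne, one_smul]
  have hcomm : ∀ a : T, Commute (ρ g) (ρ a) := by
    intro a
    have h1 : ρ ⁅g, a⁆ = 1 := hN ⁅g, a⁆ (h.comm g g.2 a a.2) (hrad a)
    show ρ g * ρ a = ρ a * ρ g
    rw [← map_mul, ← map_mul, show g * a = ⁅g, a⁆ * (a * g) by rw [commutatorElement_def]; group,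
      map_mul, h1, one_mul]
  obtain ⟨c, hc⟩ := CharClifford.exists_scalar_of_commute ρ (ρ g) hcomm
  rw [show ρ.character g = c * (Module.finrank ℂ (Fin n → ℂ) : ℂ) from
    CharClifford.scalar_eq_of_trace hc, hd0]
  refine mul_ne_zero (fun h0 => hdne ?_) hdne
  have h1 : ρ (1 : T) = 0 := by
    rw [← mul_inv_cancel g, map_mul, hc, h0, zero_smul, zero_mul]
  rw [← hd]
  show ρ.character 1 = 0
  rw [Representation.character, h1, map_zero]

end CB

end Cfsg.Agent.BC86.Palfy
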