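import Cfsg.Agent.BC86.Palfy.Field
import Cfsg.Agent.Huppert69.Pairing

/-!
A minimal normal subgroup above a maximal abelian normal subgroup in a solvable transitive linear
group: the pairing on the section and its consequences.
-/

namespace Cfsg.Agent.BC86.Palfy

open scoped commutatorElement
open Cfsg.Agent.Huppert69 (IsPairing)

variable {q : ℕ} [Fact q.Prime] {V : Type*} [AddCommGroup V] [Module (ZMod q) V] [Finite V]
variable {G : Type*} [Group G] [Finite G]

/-- `A` maximal abelian normal, `B / A` a chief factor inside the centraliser of `A`. -/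
structure Ctx (ρ : G →* (V ≃ₗ[ZMod q] V)) (A B : Subgroup G) (s : ℕ) : Prop
    extends Setting ρ A where
  maximal : ∀ K : Subgroup G, K.Normal → A ≤ K → (∀ a ∈ K, ∀ b ∈ K, a * b = b * a) → K = A
  prime : s.Prime
  normalB : B.Normal
  lt : A < B
  le_centralizer : B ≤ Subgroup.centralizer (A : Set G)
  commutator_mem : ∀ x ∈ B, ∀ y ∈ B, ⁅x, y⁆ ∈ A
  pow_mem : ∀ x ∈ B, x ^ s ∈ A
  chief : ∀ K : Subgroup G, K.Normal → A ≤ K → K ≤ B → K = A ∨ K = B

variable {ρ : G →* (V ≃ₗ[ZMod q] V)} {A B : Subgroup G} {s : ℕ}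

/-- A non-abelian centraliser of a maximal abelian normal subgroup yields a context. -/
theorem exists_ctx (hsol : Group.IsSolvable G) (hS : Setting ρ A)
    (hmax : ∀ K : Subgroup G, K.Normal → A ≤ K → (∀ a ∈ K, ∀ b ∈ K, a * b = b * a) → K = A)
    (hlt : A < Subgroup.centralizer (A : Set G)) :
    ∃ (B : Subgroup G) (s : ℕ), Ctx ρ A B s := by
  classical
  have hAn : A.Normal := hS.normal
  obtain ⟨B, ⟨hBn, hAB, hBC⟩, hBmin⟩ := Set.Finite.exists_minimal
    (Set.toFinite {B : Subgroup G | B.Normal ∧ A < B ∧ B ≤ Subgroup.centralizer (A : Set G)})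
    ⟨_, inferInstance, hlt, le_rfl⟩
  have hchief : ∀ K : Subgroup G, K.Normal → A ≤ K → K ≤ B → K = A ∨ K = B := fun K hK h1 h2 => by
    rcases h1.lt_or_eq with h | h
    · exact Or.inr (le_antisymm h2 (hBmin ⟨hK, h, h2.trans hBC⟩ h2))
    · exact Or.inl h.symm
  have hder : ⁅B, B⁆ ≤ A := by
    have hK : (⁅B, B⁆ ⊔ A).Normal := Subgroup.sup_normal _ _
    rcases hchief _ hK le_sup_right (sup_le (Subgroup.commutator_le_self B) hAB.le) with h | h
    · exact h ▸ le_sup_left
    exfalso
    have hperf : B.map (QuotientGroup.mk' A) =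
        ⁅B.map (QuotientGroup.mk' A), B.map (QuotientGroup.mk' A)⁆ := by
      rw [← Subgroup.map_commutator]
      conv_lhs => rw [← h, Subgroup.map_sup, QuotientGroup.map_mk'_self, sup_bot_eq]
    have hne : B.map (QuotientGroup.mk' A) ≠ ⊥ := by
      intro e
      rw [Subgroup.map_eq_bot_iff, QuotientGroup.ker_mk'] at e
      exact hAB.not_ge e
    exact (Group.IsSolvable.commutator_lt_of_ne_bot (G := G ⧸ A) hne).ne hperf.symm
  have hcm : ∀ x ∈ B, ∀ y ∈ B, ⁅x, y⁆ ∈ A := fun x hx y hy =>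
    hder (Subgroup.commutator_mem_commutator hx hy)
  -- a prime dividing the index
  have hidx : 1 < A.relIndex B := by
    have h0 : A.relIndex B ≠ 0 := Subgroup.index_ne_zero_of_finite
    have h1 : A.relIndex B ≠ 1 := fun e => hAB.not_ge (Subgroup.relIndex_eq_one.1 e)
    omega
  set s := (A.relIndex B).minFac with hs
  have hsp : s.Prime := Nat.minFac_prime hidx.ne'
  haveI : Fact s.Prime := ⟨hsp⟩
  have hnA : (A.subgroupOf B).Normal := Subgroup.normal_subgroupOf
  have hmk : ∀ x y : B, QuotientGroup.mk' (A.subgroupOf B) x * QuotientGroup.mk' _ y =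
      QuotientGroup.mk' _ y * QuotientGroup.mk' _ x := fun x y => by
    rw [← map_mul, ← map_mul, QuotientGroup.mk'_apply, QuotientGroup.mk'_apply, QuotientGroup.eq,
      Subgroup.mem_subgroupOf]
    have : ((x * y)⁻¹ * (y * x) : B) = (⁅(y : B)⁻¹, x⁻¹⁆ : B) := by
      rw [commutatorElement_def]; group
    rw [this]
    exact hcm _ (inv_mem y.2) _ (inv_mem x.2)
  let tor : Subgroup B :=
    { carrier := {x | x ^ s ∈ A.subgroupOf B}
      one_mem' := by simp
      mul_mem' := fun {x y} hx hy => by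
        simp only [Set.mem_setOf_eq, ← QuotientGroup.eq_one_iff] at hx hy ⊢
        have hc : Commute (QuotientGroup.mk' (A.subgroupOf B) x) (QuotientGroup.mk' _ y) := hmk x y
        show QuotientGroup.mk' (A.subgroupOf B) ((x * y) ^ s) = 1
        rw [map_pow, map_mul, hc.mul_pow, ← map_pow, ← map_pow]
        simp [hx, hy]
      inv_mem' := fun {x} hx => by
        show x⁻¹ ^ s ∈ A.subgroupOf B
        rw [inv_pow]; exact (A.subgroupOf B).inv_mem hx }
  have hexp : ∀ x ∈ B, x ^ s ∈ A := by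
    have hK : (tor.map B.subtype).Normal := by
      constructor
      rintro _ ⟨x, hx, rfl⟩ g
      refine ⟨⟨g * x * g⁻¹, hBn.conj_mem _ x.2 g⟩, ?_, rfl⟩
      show (g * x * g⁻¹) ^ s ∈ A
      rw [conj_pow]
      exact hAn.conj_mem _ hx g
    have hAK : A ≤ tor.map B.subtype := fun a ha =>
      ⟨⟨a, hAB.le ha⟩, (show a ^ s ∈ A from pow_mem ha s), rfl⟩
    rcases hchief _ hK hAK (Subgroup.map_subtype_le _) with h | h
    · exfalso
      obtain ⟨z, hz⟩ := exists_prime_orderOf_dvd_card' (G := B ⧸ A.subgroupOf B) s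
        (Nat.minFac_dvd _)
      obtain ⟨x, rfl⟩ := QuotientGroup.mk_surjective z
      have hx : x ∈ tor := by
        show x ^ s ∈ A.subgroupOf B
        rw [← QuotientGroup.eq_one_iff, QuotientGroup.mk_pow, ← hz, pow_orderOf_eq_one]
      have hxA : (x : G) ∈ A := h ▸ ⟨x, hx, rfl⟩
      rw [(QuotientGroup.eq_one_iff x).2 hxA, orderOf_one] at hz
      exact hsp.one_lt.ne hz
    · intro x hx
      obtain ⟨y, hy, rfl⟩ : x ∈ tor.map B.subtype := h.symm ▸ hx
      exact hy
  exact ⟨B, s, ⟨hS, hmax, hsp, hBn, hAB, hBC, hcm, hexp, hchief⟩⟩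

namespace Ctx

variable (h : Ctx ρ A B s)
include h

theorem hAn : A.Normal := h.normal

/-- The elements acting as members of the algebra lie in `A`. -/
theorem mem_of_lin_mem {g : G} (hg : lin ρ g ∈ alg ρ A) : g ∈ A := by
  let Z : Subgroup G :=
    { carrier := {x | lin ρ x ∈ alg ρ A}
      one_mem' := by show lin ρ 1 ∈ alg ρ A; rw [map_one]; exact one_mem _
      mul_mem' := fun {x y} hx hy => by
        show lin ρ (x * y) ∈ alg ρ A; rw [map_mul]; exact mul_mem hx hy
      inv_mem' := fun {x} hx => by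
        show lin ρ x⁻¹ ∈ alg ρ A
        rw [inv_eq_of_mul_eq_one_right (b := x ^ (orderOf x - 1)) (by
          rw [← pow_succ', Nat.sub_add_cancel (orderOf_pos x), pow_orderOf_eq_one]), map_pow]
        exact _root_.pow_mem hx _ }
  have hZ : Z = A := h.maximal Z ⟨fun x hx g => by
      show lin ρ (g * x * g⁻¹) ∈ alg ρ A
      rw [map_mul, map_mul]
      exact conj_mem_alg h.toSetting g hx⟩
    (fun a ha => lin_mem_alg ha) fun a ha b hb =>
      lin_injective h.toSetting (by rw [map_mul, map_mul]; exact alg_comm h.toSetting ha hb)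
  exact hZ ▸ (hg : g ∈ Z)

theorem commute_A {a b : G} (ha : a ∈ A) (hb : b ∈ B) : a * b = b * a :=
  Subgroup.mem_centralizer_iff.1 (h.le_centralizer hb) a ha

theorem mem_of_commute {z : G} (hz : z ∈ B) (hc : ∀ y ∈ B, z * y = y * z) : z ∈ A := by
  have := h.normalB
  have := h.normal
  let Z : Subgroup G := B ⊓ Subgroup.centralizer (B : Set G)
  have hZ : Z = A := h.maximal Z inferInstance
    (fun a ha => ⟨h.lt.le ha, Subgroup.mem_centralizer_iff.2 fun b hb => (h.commute_A ha hb).symm⟩)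
    fun a ha b hb => Subgroup.mem_centralizer_iff.1 hb.2 a ha.1
  exact hZ ▸ (show z ∈ Z from ⟨hz, Subgroup.mem_centralizer_iff.2 fun y hy => (hc y hy).symm⟩)

end Ctx

end Cfsg.Agent.BC86.Palfy
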