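import Cfsg.Agent.BC86.Palfy.Spread

/-!
Two primes with spread fixed points divide a common character degree.
-/

namespace Cfsg.Agent.BC86.Palfy

open scoped IsMulCommutative
open Cfsg.Agent.BC86.RelGraph MulAction

attribute [local instance] fnAction

variable {p : ℕ} [Fact p.Prime] {V : Type*} [AddCommGroup V] [Module (ZMod p) V] [Finite V]
variable {G : Type*} [Group G] [Finite G]

/-- A self-centralising cyclic normal subgroup has index dividing a degree. -/
theorem exists_degree_of_selfCentral {A : Subgroup G} [A.Normal] (hcyc : IsCyclic A)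
    (hself : Subgroup.centralizer (A : Set G) = A) :
    ∃ χ : Cfsg.IrrCharacter G, A.index ∣ Cfsg.charDegree (χ : G → ℂ) := by
  classical
  have := Fintype.ofFinite A
  obtain ⟨a, ha⟩ := hcyc.exists_generator
  set n := orderOf a with hn
  have hn0 : n ≠ 0 := (orderOf_pos a).ne'
  have hζ := Complex.isPrimitiveRoot_exp n hn0
  obtain ⟨z, hz⟩ := hζ.isUnit hn0
  have hzo : orderOf z = n := by
    rw [← orderOf_units, hz]; exact hζ.eq_orderOf.symm
  let θ : A →* ℂˣ := monoidHomOfForallMemZpowers ha (g' := z) (hzo.dvd)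
  have hθa : θ a = z := monoidHomOfForallMemZpowers_apply_gen ha hzo.dvd
  have hinj : Function.Injective θ := by
    rw [injective_iff_map_eq_one]
    intro x hx
    obtain ⟨i, rfl⟩ := ha x
    rw [map_zpow, hθa, ← orderOf_dvd_iff_zpow_eq_one, hzo] at hx
    exact orderOf_dvd_iff_zpow_eq_one.1 hx
  have hθ : Cfsg.IsIrrCharacter A (coeFn A θ) := CharCore.isIrrCharacter_hom θ
  obtain ⟨χ, hχ⟩ := exists_over_irr A hθ
  refine ⟨χ, ?_⟩
  have h := dvd_of_over A hθ hχ (d := 1) (by simp [coeFn])
  rw [mul_one] at h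
  have hst : stabilizer G (coeFn A θ) = A := by
    refine le_antisymm (fun g hg => ?_) (le_stabilizer A hθ)
    have hg' : g⁻¹ ∈ stabilizer G (coeFn A θ) := inv_mem hg
    rw [← hself, Subgroup.mem_centralizer_iff]
    intro x hx
    have h1 := congrFun (mem_stabilizer_iff.1 hg') ⟨x, hx⟩
    rw [smul_fn_apply, inv_inv] at h1
    have h2 := congrArg Subtype.val (hinj (Units.ext h1))
    rw [MulAut.conjNormal_apply] at h2
    exact (mul_inv_eq_iff_eq_mul.1 h2).symm
  rwa [hst] at h

/-- Two primes whose Sylow subgroups spread over the non-zero vectors of a solvable irreducible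
linear group divide a common degree. -/
theorem exists_dvd_degree [Nontrivial V] (hsol : Group.IsSolvable G)
    (ρ : G →* (V ≃ₗ[ZMod p] V)) (hinj : Function.Injective ρ)
    (hirr : ∀ W, Invariant ρ W → W = ⊥ ∨ W = ⊤)
    {q r : ℕ} [Fact q.Prime] [Fact r.Prime] (hqr : q ≠ r) (hqG : q ∣ Nat.card G)
    (hrG : r ∣ Nat.card G) (hQ : Spread ρ q) (hR : Spread ρ r) :
    ∃ χ : Cfsg.IrrCharacter G, q * r ∣ Cfsg.charDegree (χ : G → ℂ) := by
  classical
  obtain ⟨A, ⟨hAn, hAc⟩, hAmax⟩ := Set.Finite.exists_maximal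
    (Set.toFinite {A : Subgroup G | A.Normal ∧ ∀ a ∈ A, ∀ b ∈ A, a * b = b * a})
    ⟨⊥, inferInstance, fun a ha b hb => by
      rw [Subgroup.mem_bot.1 ha, Subgroup.mem_bot.1 hb]⟩
  have hq := (Fact.out : q.Prime)
  have hr := (Fact.out : r.Prime)
  have htf : ∀ e ∈ alg ρ A, ∀ v : V, v ≠ 0 → e v = 0 → e = 0 := by
    rcases hq.eq_two_or_odd' with h | h
    · rcases hr.eq_two_or_odd' with h' | h'
      · exact absurd (h.trans h'.symm) hqr
      · exact torsionFree hinj hrG hR h' hirr hAn hAc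
    · exact torsionFree hinj hqG hQ h hirr hAn hAc
  have hS : Setting ρ A := ⟨hinj, htf, hAn, hAc⟩
  have hqA : ¬ q ∣ Nat.card A := not_dvd_of_torsionFree hinj hqG hQ hS
  have hrA : ¬ r ∣ Nat.card A := not_dvd_of_torsionFree hinj hrG hR hS
  have hAC : A ≤ Subgroup.centralizer (A : Set G) := fun a ha =>
    Subgroup.mem_centralizer_iff.2 fun b hb => hAc b hb a ha
  rcases hAC.lt_or_eq with hlt | heq
  · exfalso
    have hmax : ∀ K : Subgroup G, K.Normal → A ≤ K → (∀ a ∈ K, ∀ b ∈ K, a * b = b * a) → K = A :=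
      fun K hK h1 h2 => le_antisymm (hAmax ⟨hK, h2⟩ h1) h1
    obtain ⟨B, s, h⟩ := exists_ctx hsol hS hmax hlt
    haveI := h.normal_A
    haveI := h.isMulCommutative_A
    haveI := h.normalB
    haveI := h.isMulCommutative_sec
    haveI := h.isMulCommutative_alg
    exact h.false_of_fixed hqr hq hr hqA hrA (exists_order_fixed hinj hqG hQ)
      (exists_order_fixed hinj hrG hR) (primitive_dvd hinj hqG hQ)
  · have hcyc : IsCyclic A := by
      letI : CommRing (alg ρ A) :=
        { (inferInstance : Ring (alg ρ A)) with mul_comm := fun a b => Subtype.ext (alg_comm hS a.2 b.2) }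
      haveI : IsDomain (alg ρ A) := (isField_alg hS).isDomain
      haveI : IsMulCommutative A := ⟨⟨fun a b => Subtype.ext (hAc a a.2 b b.2)⟩⟩
      refine isCyclic_of_injective_ringHom
        ({ toFun := fun a : A => (⟨lin ρ (a : G), lin_mem_alg a.2⟩ : alg ρ A)
           map_one' := Subtype.ext (map_one (lin ρ))
           map_mul' := fun a b => Subtype.ext (map_mul (lin ρ) (a : G) b) } : A →* alg ρ A)
        fun a b e => Subtype.ext (lin_injective hS (congrArg Subtype.val e))
    obtain ⟨χ, hχ⟩ := exists_degree_of_selfCentral hcyc heq.symm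
    refine ⟨χ, dvd_trans ?_ hχ⟩
    have hmul := A.card_mul_index
    exact ((Nat.coprime_primes hq hr).2 hqr).mul_dvd_of_dvd_of_dvd
      ((hq.coprime_iff_not_dvd.2 hqA).dvd_of_dvd_mul_left (hmul.symm ▸ hqG))
      ((hr.coprime_iff_not_dvd.2 hrA).dvd_of_dvd_mul_left (hmul.symm ▸ hrG))

end Cfsg.Agent.BC86.Palfy
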