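import Mathlib
import Cfsg.Agent.CG26.FieldAutCard
import Cfsg.Agent.Lib.Dickson.Transfer

/-!
Variant of `Huppert69.Field` (H69 files of helper69) with transitivity replaced by torsion-freeness
of the algebra of a normal abelian subgroup.
-/

namespace Cfsg.Agent.BC86.Palfy

variable {q : ℕ} [Fact q.Prime] {V : Type*} [AddCommGroup V] [Module (ZMod q) V] [Finite V]
variable {G : Type*} [Group G]

/-- The representation as endomorphisms. -/
def lin (ρ : G →* (V ≃ₗ[ZMod q] V)) : G →* Module.End (ZMod q) V :=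
  LinearEquiv.automorphismGroup.toLinearMapMonoidHom.comp ρ

@[simp] theorem lin_apply (ρ : G →* (V ≃ₗ[ZMod q] V)) (g : G) (v : V) : lin ρ g v = ρ g v := rfl

/-- The algebra generated by the images of `A`. -/
def alg (ρ : G →* (V ≃ₗ[ZMod q] V)) (A : Subgroup G) :
    Subalgebra (ZMod q) (Module.End (ZMod q) V) :=
  Algebra.adjoin (ZMod q) (lin ρ '' (A : Set G))

instance finite_end : Finite (Module.End (ZMod q) V) :=
  Finite.of_injective (fun f v => f v) fun _ _ h => LinearMap.ext (congrFun h)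

/-- A linear group with a normal abelian subgroup whose algebra has no torsion. -/
structure Setting (ρ : G →* (V ≃ₗ[ZMod q] V)) (A : Subgroup G) : Prop where
  inj : Function.Injective ρ
  torsionFree : ∀ e ∈ Algebra.adjoin (ZMod q) (lin ρ '' (A : Set G)), ∀ v : V, v ≠ 0 → e v = 0 → e = 0
  normal : A.Normal
  comm : ∀ a ∈ A, ∀ b ∈ A, a * b = b * a

variable {ρ : G →* (V ≃ₗ[ZMod q] V)} {A : Subgroup G}

theorem lin_inv_mul (g : G) : lin ρ g⁻¹ * lin ρ g = 1 := by rw [← map_mul, inv_mul_cancel, map_one]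

theorem lin_mul_inv (g : G) : lin ρ g * lin ρ g⁻¹ = 1 := by rw [← map_mul, mul_inv_cancel, map_one]

theorem lin_injective (h : Setting ρ A) : Function.Injective (lin ρ) := fun a b e =>
  h.inj (LinearEquiv.ext fun v => congrFun (congrArg DFunLike.coe e) v)

theorem lin_mem_alg {a : G} (ha : a ∈ A) : lin ρ a ∈ alg ρ A :=
  Algebra.subset_adjoin ⟨a, ha, rfl⟩

theorem conj_mem_alg (h : Setting ρ A) (g : G) {e : Module.End (ZMod q) V} (he : e ∈ alg ρ A) :
    lin ρ g * e * lin ρ g⁻¹ ∈ alg ρ A := by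
  induction he using Algebra.adjoin_induction with
  | mem x hx =>
    obtain ⟨a, ha, rfl⟩ := hx
    rw [← map_mul, ← map_mul]
    exact lin_mem_alg (h.normal.conj_mem a ha g)
  | algebraMap r =>
    rw [← Algebra.commutes r (lin ρ g), mul_assoc, lin_mul_inv, mul_one]
    exact algebraMap_mem _ r
  | add x y _ _ hx hy => rw [mul_add, add_mul]; exact add_mem hx hy
  | mul x y _ _ hx hy =>
    have := mul_mem hx hy
    convert this using 1
    calc lin ρ g * (x * y) * lin ρ g⁻¹ = lin ρ g * x * 1 * y * lin ρ g⁻¹ := by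
          simp only [mul_one, mul_assoc]
      _ = _ := by rw [← lin_inv_mul (ρ := ρ) g]; simp only [mul_assoc]

theorem alg_comm (h : Setting ρ A) {x y : Module.End (ZMod q) V} (hx : x ∈ alg ρ A)
    (hy : y ∈ alg ρ A) : x * y = y * x := by
  have := Algebra.isMulCommutative_adjoin (ZMod q) (s := lin ρ '' (A : Set G)) (by
    rintro _ ⟨a, ha, rfl⟩ _ ⟨b, hb, rfl⟩
    rw [← map_mul, ← map_mul, h.comm a ha b hb])
  exact congrArg Subtype.val (this.is_comm.comm ⟨x, hx⟩ ⟨y, hy⟩)

/-- A member of the algebra that kills a non-zero vector is zero. -/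
theorem eq_zero_of_apply_eq_zero (h : Setting ρ A) {e : Module.End (ZMod q) V}
    (he : e ∈ alg ρ A) {v : V} (hv : v ≠ 0) (hev : e v = 0) : e = 0 :=
  h.torsionFree e he v hv hev

theorem isField_alg [Nontrivial V] (h : Setting ρ A) : IsField (alg ρ A) := by
  have hnt : Nontrivial (alg ρ A) := ⟨⟨0, 1, fun e => by
    obtain ⟨v, hv⟩ := exists_ne (0 : V)
    exact hv (congrFun (congrArg DFunLike.coe (congrArg Subtype.val e)) v).symm⟩⟩
  have : NoZeroDivisors (alg ρ A) := ⟨fun {a b} hab => by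
    by_cases hb : b = 0
    · exact Or.inr hb
    refine Or.inl (Subtype.ext ?_)
    obtain ⟨v, hv⟩ : ∃ v, (b : Module.End (ZMod q) V) v ≠ 0 := by
      by_contra hne
      push Not at hne
      exact hb (Subtype.ext (LinearMap.ext hne))
    exact eq_zero_of_apply_eq_zero h a.2 hv
      (congrFun (congrArg DFunLike.coe (congrArg Subtype.val hab)) v)⟩
  have : IsDomain (alg ρ A) := NoZeroDivisors.to_isDomain _
  exact Finite.isDomain_to_isField _

/-- The conjugation action on the algebra. -/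
def sigma (h : Setting ρ A) (g : G) : alg ρ A ≃+* alg ρ A where
  toFun e := ⟨lin ρ g * e * lin ρ g⁻¹, conj_mem_alg h g e.2⟩
  invFun e := ⟨lin ρ g⁻¹ * e * lin ρ g, by simpa using conj_mem_alg h g⁻¹ e.2⟩
  left_inv e := Subtype.ext (by
    show lin ρ g⁻¹ * (lin ρ g * e * lin ρ g⁻¹) * lin ρ g = e
    rw [← mul_assoc, ← mul_assoc, lin_inv_mul, one_mul, mul_assoc, lin_inv_mul, mul_one])
  right_inv e := Subtype.ext (by
    show lin ρ g * (lin ρ g⁻¹ * e * lin ρ g) * lin ρ g⁻¹ = e
    rw [← mul_assoc, ← mul_assoc, lin_mul_inv, one_mul, mul_assoc, lin_mul_inv, mul_one])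
  map_mul' x y := Subtype.ext (by
    show lin ρ g * (x * y : Module.End (ZMod q) V) * lin ρ g⁻¹ =
      lin ρ g * x * lin ρ g⁻¹ * (lin ρ g * y * lin ρ g⁻¹)
    calc _ = lin ρ g * x * 1 * y * lin ρ g⁻¹ := by simp only [mul_one, mul_assoc]
      _ = _ := by rw [← lin_inv_mul (ρ := ρ) g]; simp only [mul_assoc])
  map_add' x y := Subtype.ext (by
    show lin ρ g * (x + y : Module.End (ZMod q) V) * lin ρ g⁻¹ = _
    rw [mul_add, add_mul]
    rfl)

theorem sigma_apply (h : Setting ρ A) (g : G) (e : alg ρ A) :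
    (sigma h g e : Module.End (ZMod q) V) = lin ρ g * e * lin ρ g⁻¹ := rfl

/-- The conjugation action as a homomorphism. -/
def sigmaHom (h : Setting ρ A) : G →* (alg ρ A ≃+* alg ρ A) :=
  MonoidHom.mk' (sigma h) fun g k => RingEquiv.ext fun e => Subtype.ext (by
    show _ = lin ρ g * (lin ρ k * e * lin ρ k⁻¹) * lin ρ g⁻¹
    rw [sigma_apply, mul_inv_rev, map_mul, map_mul]
    simp only [mul_assoc])

theorem ker_sigmaHom (h : Setting ρ A) : (sigmaHom h).ker = Subgroup.centralizer (A : Set G) := by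
  ext g
  rw [MonoidHom.mem_ker, Subgroup.mem_centralizer_iff]
  constructor
  · intro hg a ha
    have := congrArg Subtype.val (RingEquiv.ext_iff.1 hg ⟨lin ρ a, lin_mem_alg ha⟩)
    change lin ρ g * lin ρ a * lin ρ g⁻¹ = lin ρ a at this
    rw [← map_mul, ← map_mul] at this
    have := lin_injective h this
    rw [mul_inv_eq_iff_eq_mul] at this
    exact this.symm
  · intro hg
    refine RingEquiv.ext fun e => Subtype.ext ?_
    show lin ρ g * (e : Module.End (ZMod q) V) * lin ρ g⁻¹ = e
    obtain ⟨e, he⟩ := e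
    show lin ρ g * e * lin ρ g⁻¹ = e
    have key : lin ρ g * e = e * lin ρ g := by
      induction he using Algebra.adjoin_induction with
      | mem x hx =>
        obtain ⟨a, ha, rfl⟩ := hx
        rw [← map_mul, ← map_mul, hg a ha]
      | algebraMap r => exact (Algebra.commutes r _).symm
      | add x y _ _ hx hy => rw [mul_add, add_mul, hx, hy]
      | mul x y _ _ hx hy => rw [← mul_assoc, hx, mul_assoc, hy, mul_assoc]
    rw [key, mul_assoc, lin_mul_inv, mul_one]

end Cfsg.Agent.BC86.Palfy
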