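import Cfsg.Agent.BC86.Palfy.Section

/-!
The representatives of the section are independent over the field generated by `A`.
-/

namespace Cfsg.Agent.BC86.Palfy

open scoped commutatorElement IsMulCommutative
open Cfsg.Agent.Huppert69 (IsPairing)

variable {q : ℕ} [Fact q.Prime] {V : Type*} [AddCommGroup V] [Module (ZMod q) V] [Finite V]
variable {G : Type*} [Group G] [Finite G]
variable {ρ : G →* (V ≃ₗ[ZMod q] V)} {A B : Subgroup G} {s : ℕ}

theorem lin_comm_alg (h : Setting ρ A) {g : G} (hg : g ∈ Subgroup.centralizer (A : Set G))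
    {e : Module.End (ZMod q) V} (he : e ∈ alg ρ A) : lin ρ g * e = e * lin ρ g := by
  rw [← ker_sigmaHom h, MonoidHom.mem_ker] at hg
  have h1 : lin ρ g * e * lin ρ g⁻¹ = e :=
    congrArg Subtype.val (RingEquiv.ext_iff.1 hg ⟨e, he⟩)
  calc lin ρ g * e = lin ρ g * e * (lin ρ g⁻¹ * lin ρ g) := by rw [lin_inv_mul, mul_one]
    _ = e * lin ρ g := by rw [← mul_assoc, h1]

/-- A member of the centraliser of `A` as a map linear over the field. -/
def toE (h : Setting ρ A) (g : G) (hg : g ∈ Subgroup.centralizer (A : Set G)) :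
    V →ₗ[alg ρ A] V where
  toFun v := ρ g v
  map_add' := map_add (ρ g)
  map_smul' e v := by
    show lin ρ g ((e : Module.End (ZMod q) V) v) = (e : Module.End (ZMod q) V) (lin ρ g v)
    rw [← Module.End.mul_apply, lin_comm_alg h hg e.2, Module.End.mul_apply]

theorem toE_apply (h : Setting ρ A) (g : G) (hg : g ∈ Subgroup.centralizer (A : Set G)) (v : V) :
    toE h g hg v = ρ g v := rfl

variable [Nontrivial V] [A.Normal] [IsMulCommutative A] [IsMulCommutative (Sec A B)]
  [IsMulCommutative (alg ρ A)]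

namespace Ctx

variable (h : Ctx ρ A B s)
include h

/-- The characters of the section given by the pairing. -/
noncomputable def chr (w : Sec A B) : Sec A B →* alg ρ A where
  toFun u := ⟨lin ρ (h.pair u w : G), lin_mem_alg (h.pair u w).2⟩
  map_one' := Subtype.ext (by
    show lin ρ ((h.pair 1 w : A) : G) = 1
    have e := h.pair_mul_left 1 1 w
    rw [mul_one] at e
    rw [show h.pair 1 w = 1 from mul_eq_right.1 e.symm, OneMemClass.coe_one, map_one])
  map_mul' u v := Subtype.ext (by
    show lin ρ ((h.pair (u * v) w : A) : G) = lin ρ (h.pair u w : G) * lin ρ (h.pair v w : G)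
    rw [h.pair_mul_left, Subgroup.coe_mul, map_mul])

theorem chr_injective : Function.Injective h.chr := by
  intro w w' e
  have := Fact.mk h.prime
  have hp := h.isPairing
  rw [← mul_inv_eq_one]
  refine hp.nondeg _ fun u => ?_
  have h1 : h.pair u w = h.pair u w' := Subtype.ext
    (lin_injective h.toSetting (congrArg Subtype.val (DFunLike.congr_fun e u)))
  rw [hp.swap u, inv_eq_one]
  show hp.right u (w * w'⁻¹) = 1
  rw [map_mul, map_inv]
  show h.pair u w * (h.pair u w')⁻¹ = 1
  rw [h1, mul_inv_cancel]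

/-- The representative of a section element as a linear map over the field. -/
noncomputable def repE (w : Sec A B) : V →ₗ[alg ρ A] V :=
  toE h.toSetting (w.out : G) (h.le_centralizer w.out.2)

theorem conj_repE (u w : Sec A B) (v : V) :
    ρ (u.out : G) (h.repE w (ρ (u.out : G)⁻¹ v)) =
      (h.chr w u : Module.End (ZMod q) V) (h.repE w v) := by
  show ρ (u.out : G) (ρ (w.out : G) (ρ (u.out : G)⁻¹ v)) = ρ (⁅(u.out : G), (w.out : G)⁆) (ρ (w.out : G) v)
  rw [← LinearEquiv.mul_apply, ← LinearEquiv.mul_apply, ← LinearEquiv.mul_apply, ← map_mul,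
    ← map_mul, ← map_mul]
  congr 2
  rw [commutatorElement_def]
  group

theorem repE_independent : LinearIndependent (alg ρ A) h.repE := by
  classical
  letI : Field (alg ρ A) := (isField_alg h.toSetting).toField
  haveI := Fintype.ofFinite (Sec A B)
  rw [Fintype.linearIndependent_iff]
  intro c hc w₀
  have key : ∀ v : V, c w₀ • h.repE w₀ v = 0 := by
    intro v
    have hsum : ∀ u : Sec A B, ∑ w, h.chr w u • (c w • h.repE w v) = 0 := by
      intro u
      have h1 := congrArg (fun F : V →ₗ[alg ρ A] V => ρ (u.out : G) (F (ρ (u.out : G)⁻¹ v))) hc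
      simp only [LinearMap.coe_sum, Finset.sum_apply, LinearMap.smul_apply, map_sum,
        LinearMap.zero_apply, map_zero] at h1
      rw [← h1]
      refine Finset.sum_congr rfl fun w _ => ?_
      show _ = toE h.toSetting (u.out : G) (h.le_centralizer u.out.2) (c w • h.repE w (ρ (u.out : G)⁻¹ v))
      rw [map_smul, toE_apply, conj_repE h]
      exact smul_comm _ _ _
    rw [← Module.forall_dual_apply_eq_zero_iff (alg ρ A)]
    intro φ
    have hli := (linearIndependent_monoidHom (Sec A B) (alg ρ A)).comp h.chr h.chr_injective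
    rw [Fintype.linearIndependent_iff] at hli
    refine hli (fun w => φ (c w • h.repE w v)) (funext fun u => ?_) w₀
    have h2 := congrArg φ (hsum u)
    rw [map_sum, map_zero] at h2
    rw [Finset.sum_apply, Pi.zero_apply, ← h2]
    refine Finset.sum_congr rfl fun w _ => ?_
    rw [Pi.smul_apply, Function.comp_apply, φ.map_smul (h.chr w u), smul_eq_mul, smul_eq_mul, mul_comm]
  by_contra hne
  obtain ⟨v, hv⟩ := exists_ne (0 : V)
  have := (smul_eq_zero.1 (key v)).resolve_left hne
  exact hv ((ρ (w₀.out : G)).map_eq_zero_iff.1 this)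

theorem card_le_sq :
    Nat.card (Sec A B) ≤ Module.finrank (alg ρ A) V ^ 2 := by
  classical
  letI : Field (alg ρ A) := (isField_alg h.toSetting).toField
  haveI := Fintype.ofFinite (Sec A B)
  rw [sq, ← Module.finrank_linearMap (R := alg ρ A) (S := alg ρ A), Nat.card_eq_fintype_card]
  exact h.repE_independent.fintype_card_le_finrank

/-- If the representatives fill the endomorphisms, an element commuting with `B` lies in `A`. -/
theorem mem_of_commute_all (hcard : Nat.card (Sec A B) = Module.finrank (alg ρ A) V ^ 2) {g : G}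
    (hg : g ∈ Subgroup.centralizer (A : Set G)) (hB : ∀ b ∈ B, g * b = b * g) : g ∈ A := by
  classical
  letI : Field (alg ρ A) := (isField_alg h.toSetting).toField
  haveI := Fintype.ofFinite (Sec A B)
  have hspan : Submodule.span (alg ρ A) (Set.range h.repE) = ⊤ := by
    haveI : Nonempty (Sec A B) := ⟨1⟩
    refine h.repE_independent.span_eq_top_of_card_eq_finrank ?_
    rw [← Nat.card_eq_fintype_card, hcard, sq, Module.finrank_linearMap]
  set T := toE h.toSetting g hg with hT
  have hcomm : ∀ F : V →ₗ[alg ρ A] V, F * T = T * F := by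
    intro F
    have hF : F ∈ Submodule.span (alg ρ A) (Set.range h.repE) := hspan ▸ Submodule.mem_top
    induction hF using Submodule.span_induction with
    | mem x hx =>
      obtain ⟨w, rfl⟩ := hx
      refine LinearMap.ext fun v => ?_
      show ρ (w.out : G) (ρ g v) = ρ g (ρ (w.out : G) v)
      rw [← LinearEquiv.mul_apply, ← LinearEquiv.mul_apply, ← map_mul, ← map_mul, hB _ w.out.2]
    | zero => rw [zero_mul, mul_zero]
    | add x y _ _ hx hy => rw [add_mul, mul_add, hx, hy]
    | smul a x _ hx => rw [smul_mul_assoc, hx, mul_smul_comm]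
  have hcenter : T ∈ Set.center (Module.End (alg ρ A) V) :=
    Semigroup.mem_center_iff.2 hcomm
  obtain ⟨α, hα, hTα⟩ := Module.End.mem_center_iff.1 hcenter
  refine h.mem_of_lin_mem ?_
  have e : lin ρ g = (α : Module.End (ZMod q) V) := LinearMap.ext fun v => by
    exact (DFunLike.congr_fun hTα v : T v = _)
  rw [e]
  exact α.2

/-- If the representatives fill the endomorphisms, `B` is the kernel of the action on the section. -/
theorem mem_B_of_act_trivial [B.Normal]
    (hcard : Nat.card (Sec A B) = Module.finrank (alg ρ A) V ^ 2) {k : G}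
    (hk : k ∈ Subgroup.centralizer (A : Set G)) (hk1 : (secAct k : MulAut (Sec A B)) = 1) :
    k ∈ B := by
  classical
  letI : Field (alg ρ A) := (isField_alg h.toSetting).toField
  haveI := Fintype.ofFinite (Sec A B)
  rw [secAct_eq_one_iff] at hk1
  have hwd : ∀ x : B, ∀ a ∈ A, ⁅(x : G) * a, k⁆ = ⁅(x : G), k⁆ := by
    intro x a ha
    have e : a * k * a⁻¹ = k := by
      rw [Subgroup.mem_centralizer_iff.1 hk a ha, mul_inv_cancel_right]
    calc ⁅(x : G) * a, k⁆ = x * (a * k * a⁻¹) * (x : G)⁻¹ * k⁻¹ := by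
          rw [commutatorElement_def]; group
      _ = _ := by rw [e, commutatorElement_def]
  have hψ : ∀ x : B, ⁅((QuotientGroup.mk x : Sec A B).out : G), k⁆ = ⁅(x : G), k⁆ := by
    intro x
    obtain ⟨a, ha⟩ := QuotientGroup.mk_out_eq_mul (A.subgroupOf B) x
    rw [ha, Subgroup.coe_mul, hwd x _ (Subgroup.mem_subgroupOf.1 a.2)]
  let ψ : Sec A B →* alg ρ A :=
    { toFun := fun u => ⟨lin ρ ⁅(u.out : G), k⁆, lin_mem_alg (hk1 _ u.out.2)⟩
      map_one' := Subtype.ext (by
        show lin ρ ⁅((QuotientGroup.mk 1 : Sec A B).out : G), k⁆ = 1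
        rw [hψ, OneMemClass.coe_one, commutatorElement_one_left, map_one])
      map_mul' := fun u v => by
        obtain ⟨x, rfl⟩ := QuotientGroup.mk_surjective u
        obtain ⟨y, rfl⟩ := QuotientGroup.mk_surjective v
        refine Subtype.ext ?_
        show lin ρ ⁅((QuotientGroup.mk (x * y) : Sec A B).out : G), k⁆ =
          lin ρ ⁅((QuotientGroup.mk x : Sec A B).out : G), k⁆ *
            lin ρ ⁅((QuotientGroup.mk y : Sec A B).out : G), k⁆
        rw [hψ, hψ, hψ, ← map_mul, Subgroup.coe_mul,
          (h.commutator_mul x.2 (hk1 _ y.2)).resolve_right fun e => e (hk1 _ x.2)] }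
  haveI : Finite (Sec A B →* alg ρ A) :=
    Finite.of_injective (fun f => (f : Sec A B → alg ρ A)) DFunLike.coe_injective
  haveI := Fintype.ofFinite (Sec A B →* alg ρ A)
  have hle : Fintype.card (Sec A B →* alg ρ A) ≤ Fintype.card (Sec A B) := by
    refine (linearIndependent_monoidHom (Sec A B) (alg ρ A)).fintype_card_le_finrank.trans ?_
    rw [Module.finrank_pi]
  have hbij : Function.Bijective h.chr :=
    (Fintype.bijective_iff_injective_and_card _).2
      ⟨h.chr_injective, le_antisymm (Fintype.card_le_of_injective _ h.chr_injective) hle⟩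
  obtain ⟨w, hw⟩ := hbij.2 ψ
  obtain ⟨b, rfl⟩ := QuotientGroup.mk_surjective w
  have hbk : ∀ y ∈ B, ⁅y, (b : G)⁆ = ⁅y, k⁆ := by
    intro y hy
    have h1 := congrArg Subtype.val (DFunLike.congr_fun hw (QuotientGroup.mk (⟨y, hy⟩ : B)))
    have h2 : lin ρ ((h.pair (QuotientGroup.mk (⟨y, hy⟩ : B)) (QuotientGroup.mk b) : A) : G) =
      lin ρ ⁅((QuotientGroup.mk (⟨y, hy⟩ : B) : Sec A B).out : G), k⁆ := h1
    rw [h.pair_mk, hψ] at h2
    exact lin_injective h.toSetting h2
  have hmem : (b : G)⁻¹ * k ∈ A := by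
    refine h.mem_of_commute_all hcard (mul_mem (inv_mem (h.le_centralizer b.2)) hk) fun y hy => ?_
    have e1 : y * k * y⁻¹ = ⁅y, k⁆ * k := by rw [commutatorElement_def]; group
    have e2 : y * (b : G) * y⁻¹ = ⁅y, k⁆ * b := by
      rw [← hbk y hy, commutatorElement_def]; group
    have e3 : y * ((b : G)⁻¹ * k) * y⁻¹ = (b : G)⁻¹ * k :=
      calc y * ((b : G)⁻¹ * k) * y⁻¹ = (y * b * y⁻¹)⁻¹ * (y * k * y⁻¹) := by group
        _ = (b : G)⁻¹ * k := by rw [e1, e2]; group
    exact (mul_inv_eq_iff_eq_mul.1 e3).symm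
  have := mul_mem b.2 (h.lt.le hmem)
  rwa [mul_inv_cancel_left] at this

end Ctx

end Cfsg.Agent.BC86.Palfy
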