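import Cfsg.Agent.BC86.Palfy.CaseA
import Cfsg.Agent.BC86.Palfy.CaseB
import Cfsg.Agent.Lib.PGroup.Basic

/-!
Pálfy's three-prime condition for solvable groups.
-/

namespace Cfsg.Agent.BC86.Palfy

open MulAction Cfsg.Agent.CharDeep Cfsg.Agent.BC86.RelGraph
open scoped commutatorElement

attribute [local instance] fnAction

universe u

variable {G : Type u} [Group G] [Finite G]

/-- The case of equal primes gives a class-two configuration. -/
theorem exists_cb (hs : Group.IsSolvable G) {t : ℕ} [Fact t.Prime] (hdt : ¬ Lack G t) (N : Subgroup G)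
    [N.Normal] (hne : N ≠ ⊥) (hmin : ∀ K : Subgroup G, K.Normal → K ≤ N → K = ⊥ ∨ K = N)
    (hNp : IsPGroup t N) (hlack : Lack (G ⧸ N) t) :
    ∃ T L : Subgroup G, T.Normal ∧ CB t N T L := by
  classical
  haveI := hs
  obtain ⟨P, hPn, hPa, hPp, hPi⟩ :=
    hlack.exists_sylow (Group.isSolvable_of_surjective (QuotientGroup.mk'_surjective N))
  set T := P.comap (QuotientGroup.mk' N) with hT
  haveI hTn : T.Normal := hPn.comap _
  have hTp : IsPGroup t T := hPp.comap_of_ker_isPGroup _ (by rwa [QuotientGroup.ker_mk'])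
  have hTi : ¬ t ∣ T.index := by
    rwa [hT, Subgroup.index_comap_of_surjective _ (QuotientGroup.mk'_surjective N)]
  have hle : N ≤ T := fun x hx => by
    show (QuotientGroup.mk' N) x ∈ P
    rw [QuotientGroup.mk'_apply, (QuotientGroup.eq_one_iff x).2 hx]
    exact one_mem P
  have hcomm : ∀ a ∈ T, ∀ b ∈ T, ⁅a, b⁆ ∈ N := fun a ha b hb => by
    rw [← QuotientGroup.eq_one_iff]
    show QuotientGroup.mk' N ⁅a, b⁆ = 1
    rw [map_commutatorElement, commutatorElement_eq_one_iff_mul_comm]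
    exact hPa _ ha _ hb
  have hcentral : ∀ n ∈ N, ∀ x ∈ T, x * n = n * x := by
    have hbot : N.subgroupOf T ⊓ Subgroup.center T ≠ ⊥ :=
      PGroup.inf_center_ne_bot hTp (fun e => hne (by
        rw [Subgroup.subgroupOf_eq_bot, disjoint_iff, inf_eq_left.2 hle] at e
        exact e))
    rcases hmin (N ⊓ Subgroup.centralizer (T : Set G)) inferInstance inf_le_left with h | h
    · exfalso
      apply hbot
      rw [Subgroup.eq_bot_iff_forall]
      intro x hx
      have : (x : G) ∈ N ⊓ Subgroup.centralizer (T : Set G) :=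
        ⟨hx.1, Subgroup.mem_centralizer_iff.2 fun y hy =>
          congrArg Subtype.val (Subgroup.mem_center_iff.1 hx.2 ⟨y, hy⟩)⟩
      rw [h, Subgroup.mem_bot] at this
      exact Subtype.ext this
    · intro n hn x hx
      exact Subgroup.mem_centralizer_iff.1 (inf_eq_left.1 h hn) x hx
  have hder : ⁅T, T⁆ = N := by
    rcases hmin ⁅T, T⁆ inferInstance (Subgroup.commutator_le.2 hcomm) with h | h
    · exfalso
      refine hdt (lack_of_abelian T (fun a ha b hb => ?_) hTi)
      rw [← commutatorElement_eq_one_iff_mul_comm, ← Subgroup.mem_bot, ← h]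
      exact Subgroup.commutator_mem_commutator ha hb
    · exact h
  have hcop : (Nat.card T).Coprime T.index := by
    obtain ⟨k, hk⟩ := IsPGroup.iff_card.1 hTp
    rw [hk]
    exact Nat.Coprime.pow_left k ((Fact.out : t.Prime).coprime_iff_not_dvd.2 hTi)
  obtain ⟨L, hL⟩ := Subgroup.exists_right_complement'_of_coprime hcop
  refine ⟨T, L, hTn, ⟨‹N.Normal›, hTn, hle, hTp, hTi, hcentral, hcomm, fun φ hφ => ?_, hL.symm, hne⟩⟩
  have hle' : ⁅T, T⁆ ≤ φ.ker.map N.subtype :=
    Subgroup.commutator_le.2 fun a ha b hb => ⟨⟨⁅a, b⁆, hcomm a ha b hb⟩, hφ a ha b hb, rfl⟩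
  rw [hder] at hle'
  refine MonoidHom.ext fun n => ?_
  obtain ⟨m, hm, hme⟩ := hle' n.2
  rw [show n = m from (Subtype.ext hme).symm]
  exact hm

/-- A lacking prime in a quotient by a minimal normal subgroup is impossible. -/
theorem false_of_lack (hs : Group.IsSolvable G) (hG : SmallerGood G) {t q r : ℕ} (hb : Bad G t q r)
    (N : Subgroup G) [N.Normal] {s : ℕ} [Fact s.Prime] (hne : N ≠ ⊥)
    (hmin : ∀ K : Subgroup G, K.Normal → K ≤ N → K = ⊥ ∨ K = N) (hNp : IsPGroup s N)
    (hNc : ∀ a ∈ N, ∀ b ∈ N, a * b = b * a) (hexp : ∀ a ∈ N, a ^ s = 1)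
    (hlack : Lack (G ⧸ N) t) : False := by
  classical
  by_cases hts : t = s
  swap; · exact false_of_caseA hs hb N hne hmin hNp hNc hexp hts hlack
  subst hts
  haveI := hb.fy
  haveI := hb.fz
  obtain ⟨T, L, hTn, h⟩ := exists_cb hs hb.dx N hne hmin hNp hlack
  obtain ⟨π, hπ, hker, hsurj⟩ := exists_proj T L h.compl
  haveI := hs
  obtain ⟨n₁, hn₁⟩ := Subgroup.ne_bot_iff_exists_ne_one.1 hne
  obtain ⟨μ₀, hμ₀⟩ : ∃ μ : N →* ℂˣ, μ ≠ 1 := by
    by_contra hc
    push Not at hc
    exact hn₁ (eq_of_forall_linear N hNc fun φ => by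
      rw [hc φ, MonoidHom.one_apply, MonoidHom.one_apply])
  haveI : Nontrivial (N →* ℂˣ) := ⟨⟨μ₀, 1, hμ₀⟩⟩
  have hV : ∀ φ : N →* ℂˣ, φ ^ t = 1 := fun φ => MonoidHom.ext fun n => by
    rw [MonoidHom.pow_apply, ← map_pow, show n ^ t = 1 from Subtype.ext (hexp n n.2), map_one,
      MonoidHom.one_apply]
  have hQ : SpreadM (V := N →* ℂˣ) (dualAct N L) q := spread_of_sylow_in fun μ hμ => by
    obtain ⟨S, h1, -, h3⟩ := h.sylow_in hs hπ hker hsurj hb.hxy hb.nxy hμ
    exact ⟨S, h1, h3⟩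
  have hR : SpreadM (V := N →* ℂˣ) (dualAct N L) r := spread_of_sylow_in fun μ hμ => by
    obtain ⟨S, h1, -, h3⟩ := h.sylow_in hs hπ hker hsurj hb.hxz hb.nxz hμ
    exact ⟨S, h1, h3⟩
  rcases unique_or_degree (V := N →* ℂˣ) inferInstance hV (dualAct N L) hb.hyz hQ hR with h1 | h1 | h1
  · exact false_of_unique hs hG hb h hπ hker hsurj
  · exact false_of_unique hs hG hb.swap h hπ hker hsurj
  · obtain ⟨θ, hθ⟩ := h1
    have hirr : Cfsg.IsIrrCharacter G (fun g => (θ : L → ℂ) (π g)) :=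
      CharCore.isIrrCharacter_comp_surjective θ.2 π hsurj
    refine hb.nyz ⟨_, hirr⟩ ?_
    rwa [Deg.degree_of_eq (f := fun g => (θ : L → ℂ) (π g))
      (by rw [map_one]; exact Deg.apply_one θ)]

/-- The three-prime condition. -/
theorem not_bad : ∀ (j : ℕ) (G : Type u) [Group G] [Finite G], Nat.card G ≤ j → Group.IsSolvable G →
    ∀ x y z : ℕ, ¬ Bad G x y z := by
  intro j
  induction j with
  | zero => intro G _ _ hj; exact absurd hj (not_le_of_gt Nat.card_pos)
  | succ j ih =>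
    intro G _ _ hj hs x y z hb
    haveI := hs
    have hG : SmallerGood G := fun H _ _ hH hlt => ih H (by omega) hH
    rcases subsingleton_or_nontrivial G with hsub | hnt
    · refine hb.dx (lack_of_abelian (⊤ : Subgroup G) (fun a _ b _ => Subsingleton.elim _ _) ?_)
      rw [Subgroup.index_top]
      exact hb.fx.out.not_dvd_one
    obtain ⟨N, s, hN, hne, hmin, hsp, hNp, hNc, hexp, -⟩ := Solvable.exists_minimal_normal_elementary G
    haveI : Fact s.Prime := ⟨hsp⟩
    have hc : ∀ a ∈ N, ∀ b ∈ N, a * b = b * a := fun a ha b hb' =>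
      congrArg Subtype.val (hNc.1.1 ⟨a, ha⟩ ⟨b, hb'⟩)
    rcases lack_quotient hs hG hb N hne with hl | hl | hl
    · exact false_of_lack hs hG hb N hne hmin hNp hc hexp hl
    · exact false_of_lack hs hG hb.rotate N hne hmin hNp hc hexp hl
    · exact false_of_lack hs hG hb.rotate.rotate N hne hmin hNp hc hexp hl

end Cfsg.Agent.BC86.Palfy
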