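import Cfsg.Agent.BC86.Palfy.Linear
import Cfsg.Agent.Huppert69.Centralizer
import Cfsg.Agent.Lib.NumberTheory.Zsigmondy

/-!
Invariants of a context (variant of `Huppert69.Main`).
-/

namespace Cfsg.Agent.BC86.Palfy

open scoped commutatorElement IsMulCommutative
open Cfsg.Agent.NumberTheory
open Cfsg.Agent.Huppert69 (IsPairing commute_of_primitive)

variable {q : ℕ} [Fact q.Prime] {V : Type*} [AddCommGroup V] [Module (ZMod q) V] [Finite V]
variable {G : Type*} [Group G] [Finite G]
variable {ρ : G →* (V ≃ₗ[ZMod q] V)} {A B : Subgroup G} {s : ℕ}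

/-- The numerical invariants of a context. -/
structure Nums (q d m b s cV cA cW : ℕ) : Prop where
  hd : 1 ≤ d
  hb : 1 ≤ b
  hV : cV = q ^ (d * m)
  hW : cW = (s ^ b) ^ 2
  hle : s ^ b ≤ m
  hA : cA ∣ q ^ d - 1
  hs : s ∣ cA

namespace Ctx

variable (h : Ctx ρ A B s)
include h

theorem normal_A : A.Normal := h.normal

theorem isMulCommutative_A : IsMulCommutative A :=
  ⟨⟨fun a b => Subtype.ext (h.comm a a.2 b b.2)⟩⟩

theorem isMulCommutative_sec [A.Normal] : IsMulCommutative (Sec A B) := by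
  refine ⟨⟨fun u v => ?_⟩⟩
  obtain ⟨x, rfl⟩ := QuotientGroup.mk_surjective u
  obtain ⟨y, rfl⟩ := QuotientGroup.mk_surjective v
  rw [← QuotientGroup.mk_mul, ← QuotientGroup.mk_mul, QuotientGroup.eq, Subgroup.mem_subgroupOf]
  show ((x : G) * y)⁻¹ * (y * x) ∈ A
  have e : ((x : G) * y)⁻¹ * (y * x) = ⁅(y : G)⁻¹, (x : G)⁻¹⁆ := by
    rw [commutatorElement_def]; group
  rw [e]
  exact h.commutator_mem _ (inv_mem y.2) _ (inv_mem x.2)

theorem isMulCommutative_alg : IsMulCommutative (alg ρ A) :=
  ⟨⟨fun a b => Subtype.ext (alg_comm h.toSetting a.2 b.2)⟩⟩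

theorem exists_not_commute : ∃ x ∈ B, ∃ y ∈ B, x * y ≠ y * x := by
  by_contra hne
  push Not at hne
  exact h.lt.ne (h.maximal B h.normalB h.lt.le hne).symm

variable [Nontrivial V] [A.Normal] [IsMulCommutative A] [IsMulCommutative (Sec A B)]
  [IsMulCommutative (alg ρ A)]

theorem exists_nums : ∃ d m b, Nums q d m b s (Nat.card V) (Nat.card A)
    (Nat.card (Sec A B)) ∧ Nat.card (alg ρ A) = q ^ d ∧ Module.finrank (alg ρ A) V = m := by
  classical
  letI : Field (alg ρ A) := (isField_alg h.toSetting).toField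
  have := Fact.mk h.prime
  have hp := h.isPairing
  obtain ⟨b, hb⟩ := hp.card_eq_sq
  set d := Module.finrank (ZMod q) (alg ρ A) with hd
  have hE : Nat.card (alg ρ A) = q ^ d := by
    rw [Module.natCard_eq_pow_finrank (K := ZMod q), Nat.card_zmod]
  have hV : Nat.card V = q ^ (d * Module.finrank (alg ρ A) V) := by
    rw [Module.natCard_eq_pow_finrank (K := alg ρ A), hE, ← pow_mul]
  have hd1 : 1 ≤ d := by
    by_contra h0
    have : d = 0 := by omega
    rw [this, pow_zero] at hE
    exact absurd hE (Finite.one_lt_card (α := alg ρ A)).ne'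
  obtain ⟨x, hx, y, hy, hxy⟩ := h.exists_not_commute
  have hne : h.pair (QuotientGroup.mk (⟨x, hx⟩ : B)) (QuotientGroup.mk (⟨y, hy⟩ : B)) ≠ 1 := by
    intro e
    have e' := congrArg Subtype.val e
    rw [h.pair_mk, OneMemClass.coe_one] at e'
    exact hxy (commutatorElement_eq_one_iff_mul_comm.1 e')
  have hb1 : 1 ≤ b := by
    by_contra h0
    have : b = 0 := by omega
    rw [this, pow_zero, one_pow, Nat.card_eq_one_iff_unique] at hb
    have := hb.1
    apply hne
    rw [Subsingleton.elim (QuotientGroup.mk (⟨y, hy⟩ : B) : Sec A B) (QuotientGroup.mk (⟨x, hx⟩ : B))]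
    exact h.pair_self _
  refine ⟨d, _, b, ⟨hd1, hb1, hV, hb, ?_, ?_, ?_⟩, hE, rfl⟩
  · have := h.card_le_sq
    rw [hb] at this
    exact (Nat.pow_le_pow_iff_left two_ne_zero).1 this
  · rw [← hE, ← Nat.card_units]
    refine Subgroup.card_dvd_of_injective (MonoidHom.toHomUnits
      { toFun := fun a : A => (⟨lin ρ (a : G), lin_mem_alg a.2⟩ : alg ρ A)
        map_one' := Subtype.ext (map_one (lin ρ))
        map_mul' := fun a b => Subtype.ext (map_mul (lin ρ) (a : G) b) }) fun a b e => ?_
    exact Subtype.ext (lin_injective h.toSetting (congrArg Subtype.val (congrArg Units.val e)))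
  · rw [← orderOf_eq_prime (hp.pow_value _ _) hne]
    exact orderOf_dvd_natCard _

omit [IsMulCommutative (Sec A B)] [IsMulCommutative A] in
/-- An element of prime order prime to `d` centralises `A`. -/
theorem mem_centralizer_of_order {d r : ℕ} (hE : Nat.card (alg ρ A) = q ^ d) (hr : r.Prime)
    (hrd : ¬ r ∣ d) {x : G} (hx : orderOf x = r) : x ∈ Subgroup.centralizer (A : Set G) := by
  rw [← ker_sigmaHom h.toSetting, MonoidHom.mem_ker]
  letI : Field (alg ρ A) := (isField_alg h.toSetting).toField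
  haveI := Fintype.ofFinite (alg ρ A)
  haveI : Finite (alg ρ A ≃+* alg ρ A) :=
    Finite.of_injective (fun σ => (σ : alg ρ A → alg ρ A)) DFunLike.coe_injective
  have h1 : orderOf (sigmaHom h.toSetting x) ∣ r := hx ▸ orderOf_map_dvd _ x
  have h2 : orderOf (sigmaHom h.toSetting x) ∣ d := by
    rw [← CG26.card_fieldAut q d (F := alg ρ A) (by rw [← Nat.card_eq_fintype_card, hE])]
    exact orderOf_dvd_natCard _
  rcases (Nat.dvd_prime hr).1 h1 with e | e
  · exact orderOf_eq_one_iff.1 e
  · exact absurd (e ▸ h2) hrd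

/-- An element of prime order either centralises `B` or is bounded. -/
theorem prime_le_or_commute [B.Normal] {r b : ℕ} (hr : r.Prime) (hrs : r ≠ s)
    (hW : Nat.card (Sec A B) = (s ^ b) ^ 2) {x : G} (hx : orderOf x = r)
    (hxC : x ∈ Subgroup.centralizer (A : Set G)) :
    r ≤ s ^ b + 1 ∨ ∀ y ∈ B, x * y = y * x := by
  have := Fact.mk h.prime
  have := Fact.mk hr
  by_cases h1 : (secAct x : MulAut (Sec A B)) = 1
  · right
    intro y hy
    rw [secAct_eq_one_iff] at h1
    set c := ⁅y, x⁆ with hc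
    have hcA : c ∈ A := h1 y hy
    have hcy : c * y = y * c := h.commute_A hcA hy
    have hcx : Commute c x := Subgroup.mem_centralizer_iff.1 hxC c hcA
    have e : y * x * y⁻¹ = c * x := by rw [hc, commutatorElement_def]; group
    have hcr : c ^ r = 1 := by
      have h2 : (c * x) ^ r = 1 := by
        rw [← e, conj_pow, ← hx, pow_orderOf_eq_one, mul_one, mul_inv_cancel]
      rwa [hcx.mul_pow, ← hx, pow_orderOf_eq_one, mul_one, hx] at h2
    have hpow : ∀ k : ℕ, y ^ k * x * (y ^ k)⁻¹ = c ^ k * x := by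
      intro k
      induction k with
      | zero => simp
      | succ k ih =>
        have h3 : y * c ^ k = c ^ k * y := (Commute.pow_right (hcy.symm) k)
        calc y ^ (k + 1) * x * (y ^ (k + 1))⁻¹ = y * (y ^ k * x * (y ^ k)⁻¹) * y⁻¹ := by
              rw [pow_succ']; group
          _ = y * c ^ k * x * y⁻¹ := by rw [ih]; group
          _ = c ^ k * (y * x * y⁻¹) := by rw [h3]; group
          _ = c ^ (k + 1) * x := by rw [e, pow_succ, mul_assoc]
    have hcs : c ^ s = 1 := by
      have h4 := hpow s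
      rw [Subgroup.mem_centralizer_iff.1 hxC _ (h.pow_mem y hy), mul_inv_cancel_right] at h4
      exact (mul_eq_right.1 h4.symm)
    have hg : c ^ Nat.gcd r s = 1 := pow_gcd_eq_one.2 ⟨hcr, hcs⟩
    rw [(Nat.coprime_primes hr h.prime).2 hrs, pow_one, hc] at hg
    exact (commutatorElement_eq_one_iff_mul_comm.1 hg).symm
  · left
    refine h.isPairing.prime_le hrs hW (secAct x) ?_ h1 fun u v => h.pair_secAct hxC u v
    rw [← map_pow, ← hx, pow_orderOf_eq_one, map_one]

theorem primitive_bound [B.Normal] {d m b r : ℕ}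
    (hN : Nums q d m b s (Nat.card V) (Nat.card A) (Nat.card (Sec A B)))
    (hE : Nat.card (alg ρ A) = q ^ d) (hr : IsPrimitivePrimeDivisor r q (d * m))
    (hrG : r ∣ Nat.card G) :
    r ≤ s ^ b + 1 := by
  have hq := (Fact.out (p := q.Prime)).two_le
  have hs := h.prime.two_le
  have := Fact.mk hr.1
  have hsb : 2 ≤ s ^ b := le_trans hs (Nat.le_self_pow (by have := hN.hb; omega) s)
  have hm : 2 ≤ m := hsb.trans hN.hle
  have hdn : d < d * m := by nlinarith [hN.hd]
  have hrlt : d * m < r := hr.lt (by omega) (by omega)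
  have hrA : ¬ r ∣ Nat.card A := fun e => hr.2.2 d hN.hd hdn (e.trans hN.hA)
  have hrs : r ≠ s := fun e => hrA (e ▸ hN.hs)
  obtain ⟨x, hx⟩ := exists_prime_orderOf_dvd_card' (G := G) r hrG
  have hxC := h.mem_centralizer_of_order hE hr.1
    (fun e => by have := Nat.le_of_dvd hN.hd e; omega) hx
  refine (h.prime_le_or_commute hr.1 hrs hN.hW hx hxC).resolve_right fun hc => ?_
  have hn : Module.finrank (ZMod q) V = d * m := by
    have h1 := hN.hV
    rw [Module.natCard_eq_pow_finrank (K := ZMod q), Nat.card_zmod] at h1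
    exact Nat.pow_right_injective hq h1
  obtain ⟨u, hu, w, hw, huw⟩ := h.exists_not_commute
  apply huw
  refine lin_injective h.toSetting ?_
  rw [map_mul, map_mul]
  refine commute_of_primitive (r := r) (hn ▸ hr) (lin ρ x) ?_ ?_ _ _ ?_ ?_
  · rw [← map_pow, ← hx, pow_orderOf_eq_one, map_one]
  · rw [← map_one (lin ρ)]
    intro e
    rw [lin_injective h.toSetting e, orderOf_one] at hx
    exact hr.1.one_lt.ne hx
  · rw [← map_mul, ← map_mul, hc u hu]
  · rw [← map_mul, ← map_mul, hc w hw]

/-- The action on a section of full size has kernel `B`. -/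
theorem secAct_ker [B.Normal] (hC : Subgroup.centralizer (A : Set G) = ⊤)
    (hcard : Nat.card (Sec A B) = Module.finrank (alg ρ A) V ^ 2) :
    (secAct : G →* MulAut (Sec A B)).ker = B := by
  refine le_antisymm (fun k hk => h.mem_B_of_act_trivial hcard (hC ▸ Subgroup.mem_top k) hk)
    fun y hy => ?_
  rw [MonoidHom.mem_ker, secAct_eq_one_iff]
  exact fun x hx => h.commutator_mem x hx y hy

theorem centralizer_eq_top {d : ℕ} (hd : d = 1) (hE : Nat.card (alg ρ A) = q ^ d) :
    Subgroup.centralizer (A : Set G) = ⊤ := by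
  rw [← ker_sigmaHom h.toSetting, MonoidHom.ker_eq_top_iff]
  letI : Field (alg ρ A) := (isField_alg h.toSetting).toField
  haveI := Fintype.ofFinite (alg ρ A)
  have hc := CG26.card_fieldAut q d (F := alg ρ A) (by rw [← Nat.card_eq_fintype_card, hE])
  rw [hd, Nat.card_eq_one_iff_unique] at hc
  have := hc.1
  exact MonoidHom.ext fun g => Subsingleton.elim _ _

/-- A full section in dimension two. -/
theorem two_dim {d m b : ℕ}
    (hN : Nums q d m b s (Nat.card V) (Nat.card A) (Nat.card (Sec A B)))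
    (hn : d * m = 2) : d = 1 ∧ m = 2 ∧ s = 2 ∧ b = 1 ∧ Nat.card (Sec A B) = 4 := by
  have hs := h.prime.two_le
  have hsb : 2 ≤ s ^ b := le_trans hs (Nat.le_self_pow (by have := hN.hb; omega) s)
  have := hN.hle
  have := hN.hd
  have hm : m = 2 := by
    have : m ≤ d * m := Nat.le_mul_of_pos_left m (by omega)
    omega
  subst hm
  have hd : d = 1 := by omega
  have hs2 : s = 2 := le_antisymm ((Nat.le_self_pow (by have := hN.hb; omega) s).trans hN.hle) hs
  subst hs2
  have hb : b = 1 := by
    have h2 : 2 ^ b ≤ 2 ^ 1 := hN.hle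
    have := (Nat.pow_le_pow_iff_right (by norm_num)).1 h2
    have := hN.hb
    omega
  subst hb
  exact ⟨hd, rfl, rfl, rfl, hN.hW.trans (by norm_num)⟩

end Ctx

end Cfsg.Agent.BC86.Palfy
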