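import Cfsg.Agent.BC86.Palfy.Degree
import Cfsg.Agent.CharDeep.Deg.Basic

/-!
Two primes with spread fixed points on an elementary abelian group: one Sylow subgroup is unique,
or the primes divide a common degree.
-/

namespace Cfsg.Agent.BC86.Palfy

open Cfsg.Agent.CharDeep

variable {L : Type*} [Group L] [Finite L] {V : Type*} [CommGroup V] [Finite V]

/-- Every non-identity element is fixed by exactly one Sylow `q`-subgroup. -/
def SpreadM (σ : L →* MulAut V) (q : ℕ) : Prop :=
  ∀ v : V, v ≠ 1 → ∃! S : Sylow q L, ∀ g ∈ S, σ g v = v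

/-- A unique Sylow subgroup with spread fixed points fixes everything. -/
theorem SpreadM.fix_all {σ : L →* MulAut V} {q : ℕ} (h : SpreadM σ q) [Subsingleton (Sylow q L)]
    (S : Sylow q L) {g : L} (hg : g ∈ S) (v : V) : σ g v = v := by
  rcases eq_or_ne v 1 with rfl | hv
  · exact map_one _
  · obtain ⟨T, hT, -⟩ := h v hv
    exact hT g (Subsingleton.elim S T ▸ hg)

/-- The action on a subgroup as linear maps. -/
def linearize (s : ℕ) {M : Type*} [CommGroup M] [Module (ZMod s) (Additive M)] (ψ : L →* MulAut M) :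
    L →* (Additive M ≃ₗ[ZMod s] Additive M) where
  toFun g :=
    { (MulEquiv.toAdditive (ψ g) : Additive M ≃+ Additive M) with
      map_smul' := fun c x => ZMod.map_smul (MulEquiv.toAdditive (ψ g) : Additive M ≃+ Additive M) c x }
  map_one' := LinearEquiv.ext fun x => Additive.toMul.injective (by
    show ψ 1 x.toMul = x.toMul
    rw [map_one, MulAut.one_apply])
  map_mul' g h := LinearEquiv.ext fun x => Additive.toMul.injective (by
    show ψ (g * h) x.toMul = ψ g (ψ h x.toMul)
    rw [map_mul, MulAut.mul_apply])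

theorem linearize_apply (s : ℕ) {M : Type*} [CommGroup M] [Module (ZMod s) (Additive M)]
    (ψ : L →* MulAut M) (g : L) (x : Additive M) :
    (linearize s ψ g x).toMul = ψ g x.toMul := rfl

/-- The dichotomy. -/
theorem unique_or_degree [Nontrivial V] (hsol : Group.IsSolvable L) {s : ℕ} [Fact s.Prime]
    (hexp : ∀ v : V, v ^ s = 1) (σ : L →* MulAut V) {q r : ℕ} [Fact q.Prime] [Fact r.Prime]
    (hqr : q ≠ r) (hQ : SpreadM σ q) (hR : SpreadM σ r) :
    Subsingleton (Sylow q L) ∨ Subsingleton (Sylow r L) ∨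
      ∃ χ : Cfsg.IrrCharacter L, q * r ∣ Cfsg.charDegree (χ : L → ℂ) := by
  classical
  obtain ⟨V₀, ⟨hne, hinv⟩, hmin⟩ := Set.Finite.exists_minimal
    (Set.toFinite {W : Subgroup V | W ≠ ⊥ ∧ ∀ g : L, ∀ w ∈ W, σ g w ∈ W})
    ⟨⊤, top_ne_bot, fun _ _ _ => Subgroup.mem_top _⟩
  let σ₀ : L →* MulAut V₀ :=
    { toFun := fun g =>
        { toFun := fun w => ⟨σ g w, hinv g w w.2⟩
          invFun := fun w => ⟨σ g⁻¹ w, hinv g⁻¹ w w.2⟩
          left_inv := fun w => Subtype.ext (by
            show σ g⁻¹ (σ g w) = w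
            rw [← MulAut.mul_apply, ← map_mul, inv_mul_cancel, map_one, MulAut.one_apply])
          right_inv := fun w => Subtype.ext (by
            show σ g (σ g⁻¹ w) = w
            rw [← MulAut.mul_apply, ← map_mul, mul_inv_cancel, map_one, MulAut.one_apply])
          map_mul' := fun a b => Subtype.ext (map_mul (σ g) (a : V) b) }
      map_one' := MulEquiv.ext fun w => Subtype.ext (by
        show σ 1 (w : V) = w
        rw [map_one, MulAut.one_apply])
      map_mul' := fun g h => MulEquiv.ext fun w => Subtype.ext (by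
        show σ (g * h) (w : V) = σ g (σ h w)
        rw [map_mul, MulAut.mul_apply]) }
  have hσ₀ : ∀ g (w : V₀), (σ₀ g w : V) = σ g w := fun _ _ => rfl
  set C := σ₀.ker with hC
  obtain ⟨w₀, hw₀⟩ := Subgroup.ne_bot_iff_exists_ne_one.1 hne
  have hw₀' : (w₀ : V) ≠ 1 := fun e => hw₀ (Subtype.ext e)
  have huniq : ∀ (x : ℕ) [Fact x.Prime], SpreadM σ x → ¬ x ∣ Nat.card (L ⧸ C) →
      Subsingleton (Sylow x L) := by
    intro x _ hx hdvd
    refine ⟨fun S T => ?_⟩
    obtain ⟨U, -, hU⟩ := hx w₀ hw₀'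
    have hfix : ∀ S : Sylow x L, S = U := fun S => hU S fun g hg => by
      have hgC : g ∈ C := by
        rw [← QuotientGroup.eq_one_iff, ← orderOf_eq_one_iff]
        obtain ⟨k, hk⟩ := (IsPGroup.iff_orderOf.1 S.2) ⟨g, hg⟩
        rw [Subgroup.orderOf_mk] at hk
        have h1 : orderOf (QuotientGroup.mk g : L ⧸ C) ∣ x ^ k :=
          hk ▸ orderOf_map_dvd (QuotientGroup.mk' C) g
        have h2 := orderOf_dvd_natCard (QuotientGroup.mk g : L ⧸ C)
        exact Nat.eq_one_of_dvd_coprimes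
          (Nat.Coprime.pow_left k (((Fact.out : x.Prime).coprime_iff_not_dvd).2 hdvd)) h1 h2
      have := congrArg (fun f : MulAut V₀ => ((f w₀ : V₀) : V)) (MonoidHom.mem_ker.1 hgC)
      simpa [hσ₀] using this
    rw [hfix S, hfix T]
  by_cases hqd : q ∣ Nat.card (L ⧸ C)
  swap; · exact Or.inl (huniq q hQ hqd)
  by_cases hrd : r ∣ Nat.card (L ⧸ C)
  swap; · exact Or.inr (Or.inl (huniq r hR hrd))
  right; right
  obtain ⟨_inst⟩ : Nonempty (Module (ZMod s) (Additive V₀)) := ⟨AddCommGroup.zmodModule fun x => by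
    apply Additive.toMul.injective
    exact Subtype.ext (hexp (x.toMul : V₀))⟩
  haveI : Nontrivial V₀ := ⟨⟨w₀, 1, hw₀⟩⟩
  set ψ : (L ⧸ C) →* MulAut V₀ := QuotientGroup.kerLift σ₀ with hψ
  set ρ := linearize s ψ with hρ
  have hρ1 : ∀ (g : L) (x : Additive V₀),
      ((Additive.toMul ((ρ (QuotientGroup.mk g : L ⧸ C) : Additive V₀ ≃ₗ[ZMod s] Additive V₀) x) : V₀) : V) =
        σ g ((Additive.toMul x : V₀) : V) := fun g x => rfl
  have hspread : ∀ (x : ℕ) [Fact x.Prime], SpreadM σ x → Spread ρ x := by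
    intro x _ hx v hv
    have hv' : (v.toMul : V) ≠ 1 := fun e => hv (Additive.toMul.injective (Subtype.ext e))
    obtain ⟨S, hS, hu⟩ := hx _ hv'
    refine ⟨S.mapSurjective (QuotientGroup.mk'_surjective C), ?_, fun T hT => ?_⟩
    · rintro _ ⟨g, hg, rfl⟩
      exact Additive.toMul.injective (Subtype.ext ((hρ1 g v).trans (hS g hg)))
    · obtain ⟨T₀, rfl⟩ := Sylow.mapSurjective_surjective (QuotientGroup.mk'_surjective C) x T
      congr 1
      refine hu T₀ fun g hg => ?_
      have := hT (g : L ⧸ C) ⟨g, hg, rfl⟩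
      rw [← hρ1, this]
  have hinj : Function.Injective ρ := by
    intro a b e
    refine QuotientGroup.kerLift_injective σ₀ (MulEquiv.ext fun w => ?_)
    exact congrArg (fun f : Additive V₀ ≃ₗ[ZMod s] Additive V₀ => (f (Additive.ofMul w)).toMul) e
  have hirr : ∀ W, Invariant ρ W → W = ⊥ ∨ W = ⊤ := by
    intro W hW
    let W' : Subgroup V := (AddSubgroup.toSubgroup' W.toAddSubgroup).map V₀.subtype
    rcases eq_or_ne W' ⊥ with h | h
    · left
      rw [Submodule.eq_bot_iff]
      intro x hx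
      have : (x.toMul : V) ∈ W' := ⟨x.toMul, hx, rfl⟩
      rw [h, Subgroup.mem_bot] at this
      exact Additive.toMul.injective (Subtype.ext this)
    · right
      have hle : V₀ ≤ W' := by
        refine hmin ⟨h, ?_⟩ (Subgroup.map_subtype_le _)
        rintro g _ ⟨w, hw, rfl⟩
        exact ⟨Additive.toMul ((ρ (QuotientGroup.mk g : L ⧸ C)) (Additive.ofMul w)),
          hW (QuotientGroup.mk g) (Additive.ofMul w) hw, hρ1 g _⟩
      rw [Submodule.eq_top_iff']
      intro x
      obtain ⟨w, hw, hwx⟩ := hle x.toMul.2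
      have : w = x.toMul := Subtype.ext hwx
      subst this
      exact hw
  haveI := hsol
  have hsolq : Group.IsSolvable (L ⧸ C) := Group.isSolvable_of_surjective (QuotientGroup.mk'_surjective C)
  obtain ⟨θ, hθ⟩ := exists_dvd_degree hsolq ρ hinj hirr hqr hqd hrd (hspread q hQ) (hspread r hR)
  obtain ⟨χ, hχ, -⟩ := Deg.exists_inflate C θ
  exact ⟨χ, hχ ▸ hθ⟩

end Cfsg.Agent.BC86.Palfy
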