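import Cfsg.Agent.S1489
import Cfsg.Agent.CharDeep.Ext.Main
import Cfsg.Agent.CharDeep.Ext.LinExt
import Cfsg.Agent.CharDeep.Deg.ItoSolvable
import Cfsg.Agent.BC86.RelGraph.Degrees
import Cfsg.Agent.CharDeep.Ext.Avg

/-!
Degrees over an extendible character of a normal subgroup with a complement, and primes
dividing no degree.
-/

namespace Cfsg.Agent.BC86.Palfy

open MulAction Cfsg.Agent.CharDeep Cfsg.Agent.BC86.RelGraph

attribute [local instance] fnAction

/-- The prime divides no character degree. -/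
def Lack (G : Type*) [Group G] (x : ℕ) : Prop :=
  ∀ χ : Cfsg.IrrCharacter G, ¬ x ∣ Cfsg.charDegree (χ : G → ℂ)

universe u

variable {G : Type u} [Group G] [Finite G]

theorem lack_of_abelian {x : ℕ} (A : Subgroup G) [A.Normal]
    (hA : ∀ a ∈ A, ∀ b ∈ A, a * b = b * a) (h : ¬ x ∣ A.index) : Lack G x :=
  fun χ hd => h (hd.trans (Deg.degree_dvd_index χ A hA))

theorem Lack.exists_sylow {x : ℕ} [Fact x.Prime] (hs : Group.IsSolvable G) (h : Lack G x) :
    ∃ P : Subgroup G, P.Normal ∧ (∀ a ∈ P, ∀ b ∈ P, a * b = b * a) ∧ IsPGroup x P ∧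
      ¬ x ∣ P.index :=
  Deg.exists_abelian_sylow_aux x (Nat.card G) le_rfl hs h

/-- An element of `x`-power order lies in a normal subgroup of index prime to `x`. -/
theorem mem_of_pow_order {x : ℕ} [Fact x.Prime] (P : Subgroup G) [P.Normal] (hP : ¬ x ∣ P.index)
    {g : G} {k : ℕ} (hg : g ^ x ^ k = 1) : g ∈ P := by
  rw [← QuotientGroup.eq_one_iff, ← orderOf_eq_one_iff]
  have h1 : orderOf (g : G ⧸ P) ∣ x ^ k :=
    orderOf_dvd_of_pow_eq_one (by rw [← QuotientGroup.mk_pow, hg, QuotientGroup.mk_one])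
  have h2 : orderOf (g : G ⧸ P) ∣ P.index := Subgroup.index_eq_card P ▸ orderOf_dvd_natCard _
  exact Nat.eq_one_of_dvd_coprimes
    (Nat.Coprime.pow_left k ((Fact.out : x.Prime).coprime_iff_not_dvd.2 hP)) h1 h2

/-- A prime lacking in a normal subgroup of index prime to it is lacking in the group. -/
theorem lack_of_normal {x : ℕ} [Fact x.Prime] (M : Subgroup G) [M.Normal]
    (hs : Group.IsSolvable M) (h : Lack M x) (hM : ¬ x ∣ M.index) : Lack G x := by
  obtain ⟨P, hPn, hPa, hPp, hPi⟩ := h.exists_sylow hs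
  have hn : (P.map M.subtype).Normal := ⟨by
    rintro _ ⟨y, hy, rfl⟩ g
    obtain ⟨k, hk⟩ := hPp ⟨y, hy⟩
    refine ⟨⟨g * y * g⁻¹, Subgroup.Normal.conj_mem ‹_› _ y.2 g⟩, mem_of_pow_order P hPi (k := k) ?_,
      rfl⟩
    refine Subtype.ext ?_
    have hk' : (y : G) ^ x ^ k = 1 := congrArg (fun z : P => ((z : M) : G)) hk
    show (g * (y : G) * g⁻¹) ^ x ^ k = 1
    rw [conj_pow, hk', mul_one, mul_inv_cancel]⟩
  refine lack_of_abelian (P.map M.subtype) ?_ ?_
  · rintro _ ⟨a, ha, rfl⟩ _ ⟨b, hb, rfl⟩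
    exact congrArg Subtype.val (hPa a ha b hb)
  · rw [Subgroup.index_map_subtype]
    intro hd
    rcases (Fact.out : x.Prime).dvd_mul.1 hd with hd | hd
    · exact hPi hd
    · exact hM hd

/-- An invariant linear character of a complemented normal subgroup extends to its inertia group. -/
theorem exists_linear_ext (M : Subgroup G) [M.Normal] {L : Subgroup G} (π : G →* L)
    (hπ : ∀ l : L, π (l : G) = l) (hker : π.ker = M) (lam : M →* ℂˣ) :
    ∃ ψ : stabilizer G (coeFn M lam) → ℂ, Cfsg.IsIrrCharacter (stabilizer G (coeFn M lam)) ψ ∧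
      ∀ (n : M) (hn : (n : G) ∈ stabilizer G (coeFn M lam)), ψ ⟨n, hn⟩ = coeFn M lam n := by
  classical
  have := Fintype.ofFinite M
  set I := stabilizer G (coeFn M lam) with hI
  have hMI : M ≤ I := le_stabilizer M (CharCore.isIrrCharacter_hom lam)
  have hmem : ∀ g : G, g * (π g : G)⁻¹ ∈ M := fun g => by
    rw [← hker, MonoidHom.mem_ker, map_mul, map_inv, hπ, mul_inv_cancel]
  have hπI : ∀ g ∈ I, (π g : G) ∈ I := fun g hg => by
    have := mul_mem (inv_mem (hMI (hmem g))) hg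
    simpa [mul_assoc] using this
  have hinv : ∀ l ∈ I, ∀ n : M, lam ⟨l * n * l⁻¹, Subgroup.Normal.conj_mem ‹_› _ n.2 l⟩ = lam n := by
    intro l hl n
    have h1 := congrFun (mem_stabilizer_iff.1 (inv_mem hl : l⁻¹ ∈ I)) n
    rw [smul_fn_apply, inv_inv] at h1
    refine (congrArg lam (Subtype.ext ?_)).trans (Units.ext h1)
    exact (MulAut.conjNormal_apply l n).symm
  let F : I →* ℂˣ := MonoidHom.mk' (fun g => lam ⟨(g : G) * (π g : G)⁻¹, hmem g⟩) fun g h => by
    rw [← hinv (π (g : G)) (hπI g g.2) ⟨(h : G) * (π (h : G) : G)⁻¹, hmem h⟩, ← map_mul lam]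
    refine congrArg lam (Subtype.ext ?_)
    simp only [Subgroup.coe_mul, map_mul]
    group
  refine ⟨fun g => (F g : ℂ), CharCore.isIrrCharacter_hom F, fun n hn => ?_⟩
  have h1 : π (n : G) = 1 := by rw [← MonoidHom.mem_ker, hker]; exact n.2
  show (lam ⟨(n : G) * (π (n : G) : G)⁻¹, _⟩ : ℂ) = (lam n : ℂ)
  congr 2
  exact Subtype.ext (show (n : G) * (π (n : G) : G)⁻¹ = n by
    rw [h1, OneMemClass.coe_one, inv_one, mul_one])

/-- An invariant character of a normal Hall subgroup extends to its inertia group. -/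
theorem exists_coprime_ext (M : Subgroup G) [M.Normal] (hs : Group.IsSolvable G)
    (hcop : (Nat.card M).Coprime M.index) {θ : M → ℂ} (hθ : Cfsg.IsIrrCharacter M θ) {d : ℕ}
    (hd : θ 1 = d) (hdM : d ∣ Nat.card M) :
    ∃ ψ : stabilizer G θ → ℂ, Cfsg.IsIrrCharacter (stabilizer G θ) ψ ∧
      ∀ (n : M) (hn : (n : G) ∈ stabilizer G θ), ψ ⟨n, hn⟩ = θ n := by
  classical
  have := Fintype.ofFinite M
  have := Fintype.ofFinite G
  set I := stabilizer G θ with hI
  have hMI : M ≤ I := le_stabilizer M hθ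
  set e := Subgroup.subgroupOfEquivOfLe hMI with he
  have := Fintype.ofFinite I
  have := Fintype.ofFinite (M.subgroupOf I)
  have hϑ : Cfsg.IsIrrCharacter (M.subgroupOf I) (fun x => θ (e x)) :=
    CharCore.isIrrCharacter_comp_surjective hθ e.toMonoidHom e.surjective
  have hinv : Ext.Inv (M.subgroupOf I) (fun x => θ (e x)) := fun g n => by
    have h1 : (g : G) ∈ Ext.inertia M θ := by rw [← stabilizer_eq_inertia]; exact g.2
    exact congrFun (show Ext.conjFn M θ (g : G) = θ from h1) (e n)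
  have hidx : (M.subgroupOf I).index ∣ M.index := ⟨I.index, (Subgroup.relIndex_mul_index hMI).symm⟩
  have hcardM : Nat.card (M.subgroupOf I) = Nat.card M := Nat.card_congr e.toEquiv
  set lam := Ext.detHom (fun x => θ (e x)) with hlam
  have hlinv : ∀ (g : I) (n : M.subgroupOf I),
      lam ⟨g * n * g⁻¹, Subgroup.Normal.conj_mem inferInstance (n : I) n.2 g⟩ = lam n := by
    intro g n
    have h := Ext.detHom_comp (CharCore.IsIrrCharacter.isCharacter hϑ)
      (MulAut.conjNormal g : MulAut (M.subgroupOf I)).toMonoidHom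
    rw [show (fun x : M.subgroupOf I =>
      θ (e ((MulAut.conjNormal g : MulAut (M.subgroupOf I)).toMonoidHom x))) = fun x => θ (e x) from
      funext fun x => (congrArg (fun z => θ (e z))
        (Subtype.ext (MulAut.conjNormal_apply g x) :
          (MulAut.conjNormal g : MulAut (M.subgroupOf I)) x = ⟨g * x * g⁻¹, _⟩)).trans (hinv g x)] at h
    refine (congrArg lam (Subtype.ext ?_)).trans (DFunLike.congr_fun h n).symm
    exact (MulAut.conjNormal_apply g n).symm
  have hord : orderOf lam ∣ Nat.card M := by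
    rw [← hcardM]
    refine orderOf_dvd_of_pow_eq_one (MonoidHom.ext fun n => ?_)
    rw [MonoidHom.pow_apply, ← map_pow, pow_card_eq_one', map_one, MonoidHom.one_apply]
  obtain ⟨μ, ⟨hμ, -⟩, -⟩ := Ext.exists_unique_extend_coprime (M.subgroupOf I) lam hlinv
    ((hcop.symm.coprime_dvd_left hidx).coprime_dvd_right hord)
  haveI := hs
  obtain ⟨χ, hχ⟩ := Ext.exists_isExt_solvable _ (M.subgroupOf I) le_rfl inferInstance hϑ hinv
    (d := d) (by simp [hd]) ((hcop.symm.coprime_dvd_left hidx).coprime_dvd_right hdM) μ hμ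
  exact ⟨χ, hχ.1, fun n hn => (hχ.2.1 ⟨⟨n, hn⟩, n.2⟩).trans rfl⟩

/-- The degrees over an extendible character. -/
theorem exists_degree (M : Subgroup G) [M.Normal] {L : Type u} [Group L] (π : G →* L) (hker : π.ker = M)
    {θ : M → ℂ} (hθ : Cfsg.IsIrrCharacter M θ) {d : ℕ} (hd : θ 1 = d)
    {I : Subgroup G} (hI : stabilizer G θ = I)
    {ψ : I → ℂ} (hψ : Cfsg.IsIrrCharacter I ψ)
    (hext : ∀ (n : M) (hn : (n : G) ∈ I), ψ ⟨n, hn⟩ = θ n)
    (β : Cfsg.IrrCharacter (I.map π)) :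
    ∃ χ : Cfsg.IrrCharacter G, Cfsg.charDegree (χ : G → ℂ) =
      I.index * (Cfsg.charDegree (β : I.map π → ℂ) * d) := by
  classical
  have := Fintype.ofFinite G
  have := Fintype.ofFinite M
  have : Finite (I.map π) := Finite.of_surjective _ (π.subgroupMap_surjective I)
  have hMI : M ≤ I := hI ▸ le_stabilizer M hθ
  have := Fintype.ofFinite I
  have := Fintype.ofFinite (M.subgroupOf I)
  let f : I →* I.map π := π.subgroupMap I
  set γ : I → ℂ := fun g => (β : I.map π → ℂ) (f g) with hγdef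
  have hγ : Cfsg.IsIrrCharacter I γ :=
    CharCore.isIrrCharacter_comp_surjective β.2 f (π.subgroupMap_surjective I)
  have hγinv : ∀ (n : M.subgroupOf I) (g : I), γ ((n : I) * g) = γ g := fun n g => by
    have : f (n : I) = 1 := Subtype.ext (by
      show π ((n : I) : G) = 1
      rw [← MonoidHom.mem_ker, hker]
      exact n.2)
    show (β : I.map π → ℂ) (f ((n : I) * g)) = _
    rw [map_mul, this, one_mul]
  set e := Subgroup.subgroupOfEquivOfLe hMI with he
  have hϑ : Cfsg.IsIrrCharacter (M.subgroupOf I) (fun x => θ (e x)) :=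
    CharCore.isIrrCharacter_comp_surjective hθ e.toMonoidHom e.surjective
  have hres : (fun n : M.subgroupOf I => ψ n) = fun x => θ (e x) :=
    funext fun n => hext (e n) (n : I).2
  have hψ' : Cfsg.IsIrrCharacter (M.subgroupOf I) (fun n : M.subgroupOf I => ψ n) := hres ▸ hϑ
  have hprod : Cfsg.IsIrrCharacter I (γ * ψ) := Ext.isIrrCharacter_mul hψ hψ' hγ hγinv
  have hb : γ 1 = (Cfsg.charDegree (β : I.map π → ℂ) : ℕ) := by
    rw [hγdef]; simp only [map_one]; exact Deg.apply_one β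
  have hc : Cfsg.classInner (Cfsg.indFun (M.subgroupOf I)
      (fun x => θ ⟨((x : I) : G), Subgroup.mem_subgroupOf.mp x.2⟩)) (γ * ψ) ≠ 0 := by
    rw [CharInd.classInner_indFun_left _ _
      (CharCore.IsCharacter.isClassFunction (CharCore.IsIrrCharacter.isCharacter hprod))]
    have h1 : (fun h : M.subgroupOf I => (γ * ψ) h) = γ 1 • fun x => θ (e x) := by
      funext n
      have := hγinv n 1
      rw [mul_one] at this
      rw [Pi.mul_apply, this, Pi.smul_apply, smul_eq_mul, congrFun hres n]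
    rw [h1]
    show Cfsg.classInner (fun x : M.subgroupOf I => θ (e x)) (γ 1 • fun x => θ (e x)) ≠ 0
    rw [← CharCore.conj_classInner, CharCore.classInner_smul_left,
      (CharCore.isIrrCharacter_iff.1 hϑ).2, mul_one, map_ne_zero, hb, Nat.cast_ne_zero]
    exact (Deg.degree_pos β).ne'
  have hT : ∀ g : G, g ∈ I ↔ ∀ h : M, θ ⟨g * h * g⁻¹, Subgroup.Normal.conj_mem ‹_› _ h.2 g⟩ = θ h := by
    intro g
    rw [← hI, stabilizer_eq_inertia]
    exact funext_iff
  obtain ⟨hirr, -⟩ := S1489.result M I θ hθ hT hMI (γ * ψ) (γ * ψ) hprod hprod hc hc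
  refine ⟨⟨_, hirr⟩, Deg.degree_of_eq ?_⟩
  show Cfsg.indFun I (γ * ψ) 1 = _
  have h2 : ψ 1 = (d : ℂ) := by
    rw [← hd, ← hext 1 (one_mem I)]
    rfl
  rw [CharInd.indFun_apply_one, Pi.mul_apply, hb, h2]
  push_cast
  rfl

/-- A prime avoiding a second one in all degrees over `θ` forces a normal abelian Sylow subgroup
in the stabilizer of `θ`. -/
theorem exists_sylow_in (M : Subgroup G) [M.Normal] {L : Type u} [Group L] [Finite L]
    (hs : Group.IsSolvable L) (π : G →* L) (hπ : Function.Surjective π) (hker : π.ker = M)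
    {θ : M → ℂ} (hθ : Cfsg.IsIrrCharacter M θ) {d : ℕ} (hd : θ 1 = d)
    {ψ : stabilizer G θ → ℂ} (hψ : Cfsg.IsIrrCharacter (stabilizer G θ) ψ)
    (hext : ∀ (n : M) (hn : (n : G) ∈ stabilizer G θ), ψ ⟨n, hn⟩ = θ n)
    {a b : ℕ} [Fact a.Prime] [Fact b.Prime] (hab : a ≠ b)
    (hno : ∀ χ : Cfsg.IrrCharacter G, ¬ a * b ∣ Cfsg.charDegree (χ : G → ℂ))
    (ha : a ∣ (stabilizer G θ).index * d) :
    ∃ S : Sylow b L, (S : Subgroup L) ≤ (stabilizer G θ).map π ∧
      (∀ x ∈ S, ∀ y ∈ S, x * y = y * x) ∧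
      ∀ S' : Sylow b L, (S' : Subgroup L) ≤ (stabilizer G θ).map π → S' = S := by
  classical
  set I := stabilizer G θ with hI
  have := Fintype.ofFinite M
  have hMI : M ≤ I := le_stabilizer M hθ
  set Lθ := I.map π with hLθ
  have hidx : Lθ.index = I.index := Subgroup.index_map_eq I hπ (hker ▸ hMI)
  have hnb : ∀ β : Cfsg.IrrCharacter Lθ,
      ¬ b ∣ I.index * (Cfsg.charDegree (β : Lθ → ℂ) * d) := by
    intro β hbd
    obtain ⟨χ, hχ⟩ := exists_degree M π hker hθ hd hI.symm hψ hext β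
    refine hno χ (hχ ▸ ((Nat.coprime_primes Fact.out Fact.out).2 hab).mul_dvd_of_dvd_of_dvd ?_ hbd)
    exact ha.trans ⟨Cfsg.charDegree (β : Lθ → ℂ), by ring⟩
  have hlack : Lack Lθ b := fun β hβ => hnb β (dvd_mul_of_dvd_right (dvd_mul_of_dvd_left hβ _) _)
  have hbI : ¬ b ∣ Lθ.index := fun h =>
    hnb ⟨1, CharCore.isIrrCharacter_one⟩ (dvd_mul_of_dvd_left (hidx ▸ h) _)
  haveI := hs
  obtain ⟨P, hPn, hPa, hPp, hPi⟩ := hlack.exists_sylow inferInstance
  have hPi' : ¬ b ∣ (P.map Lθ.subtype).index := by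
    rw [Subgroup.index_map_subtype]
    intro hd'
    rcases (Fact.out : b.Prime).dvd_mul.1 hd' with h | h
    · exact hPi h
    · exact hbI h
  set S := (hPp.map Lθ.subtype).toSylow hPi' with hS
  refine ⟨S, Subgroup.map_subtype_le P, ?_, fun S' hS' => ?_⟩
  · rintro _ ⟨x, hx, rfl⟩ _ ⟨y, hy, rfl⟩
    exact congrArg Subtype.val (hPa x hx y hy)
  · refine Sylow.ext (S'.is_maximal' S.2 fun g hg => ?_).symm
    obtain ⟨k, hk⟩ := S'.2 ⟨g, hg⟩
    refine ⟨⟨g, hS' hg⟩, mem_of_pow_order P hPi (k := k) ?_, rfl⟩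
    exact Subtype.ext (congrArg Subtype.val hk :)

end Cfsg.Agent.BC86.Palfy
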