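import Cfsg.Agent.BC86.Palfy.Orbit
import Cfsg.Agent.BC86.Palfy.Over

/-!
Counterexamples to the three-prime condition: basic reductions.
-/

namespace Cfsg.Agent.BC86.Palfy

open MulAction Cfsg.Agent.CharDeep Cfsg.Agent.BC86.RelGraph

attribute [local instance] fnAction

universe u

/-- The product of two primes divides no degree. -/
def NoPair (G : Type*) [Group G] (x y : ℕ) : Prop :=
  ∀ χ : Cfsg.IrrCharacter G, ¬ x * y ∣ Cfsg.charDegree (χ : G → ℂ)

theorem NoPair.symm {G : Type*} [Group G] {x y : ℕ} (h : NoPair G x y) : NoPair G y x :=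
  fun χ => Nat.mul_comm x y ▸ h χ

/-- Three degree primes, no two with a product dividing a degree. -/
structure Bad (G : Type*) [Group G] (x y z : ℕ) : Prop where
  fx : Fact x.Prime
  fy : Fact y.Prime
  fz : Fact z.Prime
  hxy : x ≠ y
  hyz : y ≠ z
  hxz : x ≠ z
  dx : ¬ Lack G x
  dy : ¬ Lack G y
  dz : ¬ Lack G z
  nxy : NoPair G x y
  nyz : NoPair G y z
  nxz : NoPair G x z

theorem Bad.swap {G : Type*} [Group G] {x y z : ℕ} (h : Bad G x y z) : Bad G x z y :=
  ⟨h.fx, h.fz, h.fy, h.hxz, h.hyz.symm, h.hxy, h.dx, h.dz, h.dy, h.nxz, h.nyz.symm, h.nxy⟩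

theorem Bad.rotate {G : Type*} [Group G] {x y z : ℕ} (h : Bad G x y z) : Bad G y z x :=
  ⟨h.fy, h.fz, h.fx, h.hyz, h.hxz.symm, h.hxy.symm, h.dy, h.dz, h.dx, h.nyz, h.nxz.symm, h.nxy.symm⟩

/-- The induction hypothesis. -/
def SmallerGood (G : Type u) [Group G] : Prop :=
  ∀ (H : Type u) [Group H] [Finite H], Group.IsSolvable H → Nat.card H < Nat.card G →
    ∀ x y z : ℕ, ¬ Bad H x y z

variable {G : Type u} [Group G] [Finite G]

theorem lack_of_smaller (hG : SmallerGood G) {x y z : ℕ} (hb : Bad G x y z) (H : Type u) [Group H]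
    [Finite H] (hs : Group.IsSolvable H) (hcard : Nat.card H < Nat.card G)
    (hdeg : ∀ θ : Cfsg.IrrCharacter H, ∃ χ : Cfsg.IrrCharacter G,
      Cfsg.charDegree (θ : H → ℂ) ∣ Cfsg.charDegree (χ : G → ℂ)) :
    Lack H x ∨ Lack H y ∨ Lack H z := by
  by_contra hc
  push Not at hc
  have key : ∀ {a b : ℕ}, NoPair G a b → NoPair H a b := fun h θ hd => by
    obtain ⟨χ, hχ⟩ := hdeg θ
    exact h χ (hd.trans hχ)
  exact hG H hs hcard x y z ⟨hb.fx, hb.fy, hb.fz, hb.hxy, hb.hyz, hb.hxz, hc.1, hc.2.1, hc.2.2,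
    key hb.nxy, key hb.nyz, key hb.nxz⟩

theorem lack_quotient (hs : Group.IsSolvable G) (hG : SmallerGood G) {x y z : ℕ} (hb : Bad G x y z)
    (N : Subgroup G) [N.Normal] (hN : N ≠ ⊥) :
    Lack (G ⧸ N) x ∨ Lack (G ⧸ N) y ∨ Lack (G ⧸ N) z := by
  haveI := hs
  refine lack_of_smaller hG hb (G ⧸ N) (Group.isSolvable_of_surjective (QuotientGroup.mk'_surjective N))
    ?_ fun θ => ?_
  · have h1 := (Subgroup.one_lt_card_iff_ne_bot N).2 hN
    have h2 := Subgroup.card_eq_card_quotient_mul_card_subgroup N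
    have h3 : 0 < Nat.card (G ⧸ N) := Nat.card_pos
    nlinarith
  · obtain ⟨χ, hχ, -⟩ := Deg.exists_inflate N θ
    exact ⟨χ, hχ ▸ dvd_rfl⟩

theorem lack_normal (hs : Group.IsSolvable G) (hG : SmallerGood G) {x y z : ℕ} (hb : Bad G x y z)
    (M : Subgroup G) [M.Normal] (hM : M ≠ ⊤) :
    Lack M x ∨ Lack M y ∨ Lack M z := by
  haveI := hs
  refine lack_of_smaller hG hb M inferInstance ?_ (Deg.exists_dvd_of_normal M)
  exact lt_of_le_of_ne (Subgroup.card_le_card_group M) fun e => hM (Subgroup.eq_top_of_card_eq M e)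

/-- A normal subgroup of index prime to the three primes is everything. -/
theorem eq_top_of_index (hs : Group.IsSolvable G) (hG : SmallerGood G) {x y z : ℕ}
    (hb : Bad G x y z) (M : Subgroup G) [M.Normal] (hx : ¬ x ∣ M.index) (hy : ¬ y ∣ M.index)
    (hz : ¬ z ∣ M.index) : M = ⊤ := by
  haveI := hs
  haveI := hb.fx
  haveI := hb.fy
  haveI := hb.fz
  by_contra hM
  rcases lack_normal hs hG hb M hM with h | h | h
  · exact hb.dx (lack_of_normal M inferInstance h hx)
  · exact hb.dy (lack_of_normal M inferInstance h hy)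
  · exact hb.dz (lack_of_normal M inferInstance h hz)

/-- The projection to a complement of a normal subgroup. -/
theorem exists_proj (N L : Subgroup G) [N.Normal] (hc : L.IsComplement' N) :
    ∃ π : G →* L, (∀ l : L, π (l : G) = l) ∧ π.ker = N ∧ Function.Surjective π := by
  refine ⟨hc.QuotientMulEquiv.toMonoidHom.comp (QuotientGroup.mk' N), fun l => ?_, ?_,
    hc.QuotientMulEquiv.surjective.comp (QuotientGroup.mk'_surjective N)⟩
  · show hc.QuotientMulEquiv (QuotientGroup.mk (l : G) : G ⧸ N) = l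
    rw [MulEquiv.apply_eq_iff_symm_apply, Subgroup.IsComplement'.QuotientMulEquiv_symm_apply]
    rfl
  · rw [← MonoidHom.comap_ker, (MonoidHom.ker_eq_bot_iff _).2 hc.QuotientMulEquiv.injective,
      MonoidHom.comap_bot, QuotientGroup.ker_mk']

/-- Membership in the image of a subgroup containing the kernel. -/
theorem mem_map_proj {N L : Subgroup G} {π : G →* L} (hπ : ∀ l : L, π (l : G) = l) (hker : π.ker = N)
    {I : Subgroup G} (hNI : N ≤ I) {l : L} : l ∈ I.map π ↔ (l : G) ∈ I := by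
  refine ⟨?_, fun h => ⟨l, h, hπ l⟩⟩
  rintro ⟨g, hg, rfl⟩
  have hk : g * (π g : G)⁻¹ ∈ N := by
    rw [← hker, MonoidHom.mem_ker, map_mul, map_inv, hπ, mul_inv_cancel]
  simpa [mul_assoc] using mul_mem (inv_mem (hNI hk)) hg

/-- Conjugation on linear characters of a normal subgroup. -/
noncomputable def dualAct (N L : Subgroup G) [N.Normal] : L →* MulAut (N →* ℂˣ) where
  toFun l :=
    { toFun := conjLin N (l : G)
      invFun := conjLin N (l : G)⁻¹
      left_inv := fun φ => coeFn_injective N (by rw [← smul_coeFn, ← smul_coeFn, inv_smul_smul])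
      right_inv := fun φ => coeFn_injective N (by rw [← smul_coeFn, ← smul_coeFn, smul_inv_smul])
      map_mul' := map_mul (conjLin N (l : G)) }
  map_one' := MulEquiv.ext fun φ => coeFn_injective N (by
    show coeFn N (conjLin N ((1 : L) : G) φ) = coeFn N φ
    rw [← smul_coeFn, OneMemClass.coe_one, one_smul])
  map_mul' a b := MulEquiv.ext fun φ => coeFn_injective N (by
    show coeFn N (conjLin N ((a * b : L) : G) φ) = coeFn N (conjLin N (a : G) (conjLin N (b : G) φ))
    rw [← smul_coeFn, ← smul_coeFn, ← smul_coeFn, Subgroup.coe_mul, mul_smul])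

theorem dualAct_eq_iff {N L : Subgroup G} [N.Normal] {l : L} {φ : N →* ℂˣ} :
    dualAct N L l φ = φ ↔ (l : G) ∈ stabilizer G (coeFn N φ) :=
  (stabilizer_coeFn N φ).symm

/-- Linear characters separate the elements of an abelian subgroup. -/
theorem eq_of_forall_linear (N : Subgroup G) (hN : ∀ a ∈ N, ∀ b ∈ N, a * b = b * a) {n n' : N}
    (h : ∀ φ : N →* ℂˣ, φ n = φ n') : n = n' := by
  letI : CommGroup N :=
    { (inferInstance : Group N) with mul_comm := fun a b => Subtype.ext (hN a a.2 b b.2) }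
  exact (CommGroup.forall_apply_eq_apply_iff N).1 h

/-- An element fixing all linear characters centralizes an abelian normal subgroup. -/
theorem commute_of_fix_all (N L : Subgroup G) [N.Normal] (hN : ∀ a ∈ N, ∀ b ∈ N, a * b = b * a)
    {l : L} (h : ∀ φ : N →* ℂˣ, dualAct N L l φ = φ) {n : G} (hn : n ∈ N) :
    (l : G) * n = n * l := by
  have h1 : (MulAut.conjNormal ((l : G)⁻¹) : MulAut N) ⟨n, hn⟩ = ⟨n, hn⟩ :=
    eq_of_forall_linear N hN fun φ => DFunLike.congr_fun (h φ) ⟨n, hn⟩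
  have h2 := congrArg Subtype.val h1
  rw [MulAut.conjNormal_apply, inv_inv] at h2
  simp only at h2
  calc (l : G) * n = l * ((l : G)⁻¹ * n * l) := by rw [h2]
    _ = n * l := by group

/-- A normal abelian Sylow subgroup of a complement centralizing the abelian kernel. -/
theorem lack_of_centralizing {N L : Subgroup G} [N.Normal] {π : G →* L}
    (hπ : ∀ l : L, π (l : G) = l) (hker : π.ker = N) (hsurj : Function.Surjective π)
    (hN : ∀ a ∈ N, ∀ b ∈ N, a * b = b * a) {b : ℕ} [Fact b.Prime] (S : Sylow b L)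
    [(S : Subgroup L).Normal] (hS : ∀ x ∈ S, ∀ y ∈ S, x * y = y * x)
    (hc : ∀ l ∈ S, ∀ n ∈ N, ((l : L) : G) * n = n * l) : Lack G b := by
  refine lack_of_abelian ((S : Subgroup L).comap π) (fun g hg g' hg' => ?_) ?_
  · have hk : ∀ g : G, g * (π g : G)⁻¹ ∈ N := fun g => by
      rw [← hker, MonoidHom.mem_ker, map_mul, map_inv, hπ, mul_inv_cancel]
    obtain ⟨n, hn, hg₀⟩ : ∃ n ∈ N, g = n * (π g : G) := ⟨_, hk g, (inv_mul_cancel_right g _).symm⟩
    obtain ⟨m, hm, hg₁⟩ : ∃ m ∈ N, g' = m * (π g' : G) := ⟨_, hk g', (inv_mul_cancel_right g' _).symm⟩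
    set a := π g with ha
    set a' := π g' with ha'
    have c1 : (a : G) * m = m * a := hc a hg m hm
    have c2 : (a' : G) * n = n * a' := hc a' hg' n hn
    have c3 : (a : G) * a' = a' * a := congrArg Subtype.val (hS a hg a' hg')
    rw [hg₀, hg₁]
    calc n * (a : G) * (m * a') = n * ((a : G) * m) * a' := by group
      _ = (n * m) * ((a : G) * a') := by rw [c1]; group
      _ = m * (n * (a' : G)) * a := by rw [hN n hn m hm, c3]; group
      _ = m * (a' : G) * (n * a) := by rw [← c2]; group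
  · rw [Subgroup.index_comap_of_surjective _ hsurj]
    exact S.not_dvd_index' Subgroup.index_ne_zero_of_finite

/-- The stabilizers of linear characters spread the Sylow subgroups. -/
theorem spread_of_sylow_in {N L : Subgroup G} [N.Normal] {q : ℕ}
    (h : ∀ φ : N →* ℂˣ, φ ≠ 1 → ∃ S : Sylow q L,
      (S : Subgroup L) ≤ (stabilizer G (coeFn N φ)).comap L.subtype ∧
      ∀ S' : Sylow q L, (S' : Subgroup L) ≤ (stabilizer G (coeFn N φ)).comap L.subtype → S' = S) :
    SpreadM (V := N →* ℂˣ) (dualAct N L) q := by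
  intro φ hφ
  obtain ⟨S, hS, hu⟩ := h φ hφ
  exact ⟨S, fun g hg => dualAct_eq_iff.2 (hS hg), fun S' hS' => hu S' fun g hg => dualAct_eq_iff.1 (hS' g hg)⟩

end Cfsg.Agent.BC86.Palfy
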