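import Cfsg.Agent.BC86.Palfy.Bound
import Cfsg.Agent.BC86.RelGraph.Degrees

/-!
A solvable irreducible linear group in which, for two primes, every non-zero vector is fixed by
exactly one Sylow subgroup has a degree divisible by both primes.
-/

namespace Cfsg.Agent.BC86.Palfy

open scoped IsMulCommutative
open Cfsg.Agent.NumberTheory Cfsg.Agent.BC86.RelGraph MulAction

attribute [local instance] fnAction

variable {p : ℕ} [Fact p.Prime] {V : Type*} [AddCommGroup V] [Module (ZMod p) V] [Finite V]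
variable {G : Type*} [Group G] [Finite G]

/-- Every non-zero vector is fixed by exactly one Sylow `q`-subgroup. -/
def Spread (ρ : G →* (V ≃ₗ[ZMod p] V)) (q : ℕ) : Prop :=
  ∀ v : V, v ≠ 0 → ∃! S : Sylow q G, ∀ g ∈ S, ρ g v = v

/-- Invariance of a submodule. -/
def Invariant (ρ : G →* (V ≃ₗ[ZMod p] V)) (W : Submodule (ZMod p) V) : Prop :=
  ∀ g : G, ∀ w ∈ W, ρ g w ∈ W

/-- The vectors fixed by a subgroup. -/
def fixedSub (ρ : G →* (V ≃ₗ[ZMod p] V)) (S : Subgroup G) : Submodule (ZMod p) V where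
  carrier := {v | ∀ g ∈ S, ρ g v = v}
  add_mem' := fun {a b} ha hb g hg => by rw [map_add, ha g hg, hb g hg]
  zero_mem' := fun g _ => map_zero _
  smul_mem' := fun c v hv g hg => by rw [map_smul, hv g hg]

theorem mem_fixedSub {ρ : G →* (V ≃ₗ[ZMod p] V)} {S : Subgroup G} {v : V} :
    v ∈ fixedSub ρ S ↔ ∀ g ∈ S, ρ g v = v := Iff.rfl

/-- Some power of an element of a finite monoid is idempotent. -/
theorem exists_idem {M : Type*} [Monoid M] [Finite M] (e : M) :
    ∃ k : ℕ, 0 < k ∧ e ^ k * e ^ k = e ^ k := by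
  obtain ⟨i, j, hne, heq⟩ := Finite.exists_ne_map_eq_of_infinite fun k : ℕ => e ^ k
  wlog hlt : i < j generalizing i j
  · exact this j i hne.symm heq.symm (by omega)
  set c := j - i with hc
  have hper : ∀ m, i ≤ m → e ^ (m + c) = e ^ m := by
    intro m hm
    rw [show m + c = (m - i) + j by omega, pow_add, show e ^ j = e ^ i from heq.symm, ← pow_add,
      Nat.sub_add_cancel hm]
  have hmul : ∀ t m, i ≤ m → e ^ (m + t * c) = e ^ m := by
    intro t
    induction t with
    | zero => simp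
    | succ t ih =>
      intro m hm
      rw [add_one_mul, ← add_assoc, hper _ (by omega), ih m hm]
  refine ⟨(i + 1) * c, Nat.mul_pos (by omega) (by omega), ?_⟩
  rw [← pow_add]
  exact hmul (i + 1) _ ((Nat.le_succ i).trans (Nat.le_mul_of_pos_right _ (by omega)))

variable {ρ : G →* (V ≃ₗ[ZMod p] V)} {q : ℕ} [Fact q.Prime]

omit [Finite V] in
theorem fixed_smul {S : Sylow q G} {v : V} (hv : ∀ g ∈ S, ρ g v = v) (x : G) :
    ∀ g ∈ (x • S : Sylow q G), ρ g (ρ x v) = ρ x v := by
  intro g hg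
  have h1 : x⁻¹ * g * x ∈ (S : Subgroup G) := by
    change g ∈ ((x • S : Sylow q G) : Subgroup G) at hg
    rw [Sylow.coe_subgroup_smul] at hg
    obtain ⟨y, hy, rfl⟩ := hg
    have hy' : y ∈ (S : Subgroup G) := hy
    simpa [mul_assoc, MulAut.conj_apply] using hy'
  have := hv _ h1
  rw [← LinearEquiv.mul_apply, ← map_mul]
  conv_rhs => rw [← this, ← LinearEquiv.mul_apply, ← map_mul]
  congr 2
  group

variable (hinj : Function.Injective ρ) (hqG : q ∣ Nat.card G)
include hinj hqG

theorem exists_moved_vector (S : Sylow q G) : ∃ v : V, ∃ g ∈ S, ρ g v ≠ v := by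
  by_contra hc
  push Not at hc
  have hS : (S : Subgroup G) ≠ ⊥ := S.ne_bot_of_dvd_card hqG
  apply hS
  rw [Subgroup.eq_bot_iff_forall]
  intro g hg
  exact hinj (by rw [map_one]; exact LinearEquiv.ext fun v => hc v g hg)

variable [Nontrivial V] (hQ : Spread ρ q)
include hQ

/-- Every Sylow subgroup fixes a non-zero vector. -/
theorem exists_fixed (S : Sylow q G) : ∃ v : V, v ≠ 0 ∧ ∀ g ∈ S, ρ g v = v := by
  obtain ⟨v, hv⟩ := exists_ne (0 : V)
  obtain ⟨T, hT, -⟩ := hQ v hv
  obtain ⟨x, hx⟩ := MulAction.exists_smul_eq G T S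
  exact ⟨ρ x v, fun e => hv ((ρ x).map_eq_zero_iff.1 e), hx ▸ fixed_smul hT x⟩

theorem exists_order_fixed : ∃ x : G, orderOf x = q ∧ ∃ v : V, v ≠ 0 ∧ ρ x v = v := by
  obtain ⟨S⟩ := (inferInstance : Nonempty (Sylow q G))
  obtain ⟨v, hv, hS⟩ := exists_fixed hinj hqG hQ S
  obtain ⟨x, hx⟩ := exists_prime_orderOf_dvd_card' (G := S) q (S.dvd_card_of_dvd_card hqG)
  exact ⟨x, by rw [Subgroup.orderOf_coe, hx], v, hv, hS x x.2⟩

/-- The primitive part of `p ^ n - 1` divides the group order. -/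
theorem primitive_dvd (l e : ℕ) (hl : IsPrimitivePrimeDivisor l p (Module.finrank (ZMod p) V))
    (he : l ^ e ∣ p ^ Module.finrank (ZMod p) V - 1) : l ^ e ∣ Nat.card G := by
  classical
  have hp := (Fact.out (p := p.Prime)).two_le
  obtain ⟨S₀⟩ := (inferInstance : Nonempty (Sylow q G))
  let f : {v : V // v ≠ 0} → Sylow q G := fun v => (hQ v v.2).choose
  have hf : ∀ v : {v : V // v ≠ 0}, ∀ g ∈ f v, ρ g v = (v : V) := fun v => (hQ v v.2).choose_spec.1
  have hu : ∀ v : {v : V // v ≠ 0}, ∀ S : Sylow q G, (∀ g ∈ S, ρ g v = (v : V)) → S = f v :=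
    fun v S hS => (hQ v v.2).choose_spec.2 S hS
  have hfib : ∀ S : Sylow q G, Nat.card {v // f v = S} =
      Nat.card {w : fixedSub ρ (S₀ : Subgroup G) // w ≠ 0} := by
    intro S
    obtain ⟨x, hx⟩ := MulAction.exists_smul_eq G S S₀
    have hx' : x⁻¹ • S₀ = S := by rw [← hx, inv_smul_smul]
    refine Nat.card_congr
      { toFun := fun v => ⟨⟨ρ x (v.1 : V), by
            rw [← hx]
            refine fixed_smul (S := S) ?_ x
            intro g hg
            exact hf v.1 g (v.2.symm ▸ hg)⟩, fun e =>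
          v.1.2 ((ρ x).map_eq_zero_iff.1 (congrArg Subtype.val e))⟩
        invFun := fun w => ⟨⟨ρ x⁻¹ (w.1 : V), fun e => w.2 (Subtype.ext ((ρ x⁻¹).map_eq_zero_iff.1 e))⟩,
          (hu ⟨ρ x⁻¹ (w.1 : V), _⟩ S (by
            rw [← hx']
            exact fixed_smul (S := S₀) w.1.2 x⁻¹)).symm⟩
        left_inv := fun v => Subtype.ext (Subtype.ext (by
          show ρ x⁻¹ (ρ x (v.1 : V)) = v.1
          rw [← LinearEquiv.mul_apply, ← map_mul, inv_mul_cancel, map_one]; rfl))
        right_inv := fun w => Subtype.ext (Subtype.ext (by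
          show ρ x (ρ x⁻¹ (w.1 : V)) = w.1
          rw [← LinearEquiv.mul_apply, ← map_mul, mul_inv_cancel, map_one]; rfl)) }
  haveI := Fintype.ofFinite (Sylow q G)
  have hcount : Nat.card {v : V // v ≠ 0} =
      Nat.card (Sylow q G) * Nat.card {w : fixedSub ρ (S₀ : Subgroup G) // w ≠ 0} := by
    rw [← Nat.card_congr (Equiv.sigmaFiberEquiv f), Nat.card_sigma, Finset.sum_congr rfl fun S _ => hfib S,
      Finset.sum_const, Finset.card_univ, ← Nat.card_eq_fintype_card, smul_eq_mul]
  have hne0 : ∀ (W : Type _) [Zero W] [Finite W], Nat.card {w : W // w ≠ 0} = Nat.card W - 1 := by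
    intro W _ _
    haveI := Fintype.ofFinite W
    rw [Nat.card_eq_fintype_card, Nat.card_eq_fintype_card, Fintype.card_subtype_compl,
      Fintype.card_subtype_eq]
  rw [hne0, hne0, Module.natCard_eq_pow_finrank (K := ZMod p) (V := V),
    Module.natCard_eq_pow_finrank (K := ZMod p) (V := fixedSub ρ (S₀ : Subgroup G)),
    Nat.card_zmod] at hcount
  set n := Module.finrank (ZMod p) V
  set a := Module.finrank (ZMod p) (fixedSub ρ (S₀ : Subgroup G))
  have han : a < n := by
    refine lt_of_le_of_ne (Submodule.finrank_le _) fun e => ?_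
    have htop := Submodule.eq_top_of_finrank_eq (K := ZMod p) e
    obtain ⟨v, g, hg, hgv⟩ := exists_moved_vector hinj hqG S₀
    exact hgv ((mem_fixedSub.1 (htop ▸ Submodule.mem_top : v ∈ fixedSub ρ (S₀ : Subgroup G))) g hg)
  have hn1 : 1 < p ^ n := Nat.one_lt_pow (by omega) (by omega)
  have ha0 : 0 < a := by
    by_contra h0
    have : a = 0 := by omega
    rw [this, pow_zero, Nat.sub_self, mul_zero] at hcount
    omega
  have hcop : (l ^ e).Coprime (p ^ a - 1) :=
    Nat.Coprime.pow_left e (hl.1.coprime_iff_not_dvd.2 (hl.2.2 a ha0 han))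
  refine (hcop.dvd_of_dvd_mul_right (hcount ▸ he)).trans ?_
  exact (Sylow.card_dvd_index S₀).trans (Subgroup.index_dvd_card _)

omit [Nontrivial V] hinj hqG in
/-- A fixed vector of a sum in two different blocks forces equal Sylow subgroups. -/
theorem same_sylow (hodd : Odd q) {f g : Module.End (ZMod p) V} (hfg : f * g = 0) (hgf : g * f = 0)
    (hconj : ∀ x : G, ∀ e ∈ ({f, g} : Set (Module.End (ZMod p) V)),
      ∀ e' ∈ ({f, g} : Set (Module.End (ZMod p) V)),
      lin ρ x * e * lin ρ x⁻¹ = e' ∨ e' * (lin ρ x * e * lin ρ x⁻¹) = 0 ∧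
        (lin ρ x * e * lin ρ x⁻¹) * e' = 0)
    (hff : f * f = f) (hgg : g * g = g) {v w : V} (hfv : f v = v) (hgw : g w = w)
    (hv : v ≠ 0) (hw : w ≠ 0) :
    ∀ S : Sylow q G, (∀ x ∈ S, ρ x v = v) → ∀ x ∈ S, ρ x w = w := by
  have hgv : g v = 0 := by rw [← hfv, ← Module.End.mul_apply, hgf, LinearMap.zero_apply]
  have hfw : f w = 0 := by rw [← hgw, ← Module.End.mul_apply, hfg, LinearMap.zero_apply]
  have hvw : v + w ≠ 0 := fun e => hv (by
    have := congrArg f e
    rwa [map_add, hfv, hfw, add_zero, map_zero] at this)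
  obtain ⟨S, hS, -⟩ := hQ (v + w) hvw
  have key : ∀ x ∈ S, ρ x v = v ∧ ρ x w = w := by
    intro x hx
    set c : Module.End (ZMod p) V → Module.End (ZMod p) V :=
      fun e => lin ρ x * e * lin ρ x⁻¹ with hc
    have hcx : ∀ e : Module.End (ZMod p) V, ∀ u : V, c e (ρ x u) = ρ x (e u) := by
      intro e u
      show ρ x (e (ρ x⁻¹ (ρ x u))) = _
      rw [← LinearEquiv.mul_apply, ← map_mul, inv_mul_cancel, map_one]
      rfl
    have hcu : ∀ e : Module.End (ZMod p) V, c e (v + w) = ρ x (e (v + w)) := fun e => by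
      conv_lhs => rw [← hS x hx]
      exact hcx e _
    -- each block goes to one of the two blocks
    have hmove : ∀ e ∈ ({f, g} : Set (Module.End (ZMod p) V)), c e = f ∨ c e = g := by
      intro e he
      by_contra hne
      push Not at hne
      have h1 := ((hconj x e he f (Set.mem_insert _ _)).resolve_left hne.1).2
      have h2 := ((hconj x e he g (Set.mem_insert_of_mem _ rfl)).resolve_left hne.2).2
      have e0 : c e (v + w) = 0 := by
        rw [map_add, ← hfv, ← hgw, ← Module.End.mul_apply, ← Module.End.mul_apply]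
        show (lin ρ x * e * lin ρ x⁻¹ * f) v + (lin ρ x * e * lin ρ x⁻¹ * g) w = 0
        rw [h1, h2, LinearMap.zero_apply, LinearMap.zero_apply, add_zero]
      rw [hcu, LinearEquiv.map_eq_zero_iff, map_add] at e0
      rcases he with rfl | rfl
      · rw [hfv, hfw, add_zero] at e0; exact hv e0
      · rw [hgv, hgw, zero_add] at e0; exact hw e0
    have hfix : ∀ y : G, lin ρ y * f * lin ρ y⁻¹ = f → ρ y (v + w) = v + w →
        ρ y v = v ∧ ρ y w = w := by
      intro y hy hyu
      have h1 : ρ y (f (v + w)) = f (v + w) := by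
        conv_rhs => rw [← hyu, ← hy]
        show ρ y (f (v + w)) = ρ y (f (ρ y⁻¹ (ρ y (v + w))))
        rw [← LinearEquiv.mul_apply (ρ y⁻¹), ← map_mul, inv_mul_cancel, map_one]
        rfl
      rw [map_add f, hfv, hfw, add_zero] at h1
      exact ⟨h1, by rwa [map_add, h1, add_right_inj] at hyu⟩
    refine hfix x ?_ (hS x hx)
    show c f = f
    rcases hmove f (Set.mem_insert _ _) with h1 | h1
    · exact h1
    -- otherwise the square fixes `f`, and so does `x` of odd order
    exfalso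
    have hcinj : ∀ a b, c a = c b → a = b := by
      intro a b hab
      have := congrArg (fun z => lin ρ x⁻¹ * z * lin ρ x) hab
      simpa [hc, mul_assoc, lin_inv_mul, ← mul_assoc (lin ρ x⁻¹) (lin ρ x)] using this
    have h2 : c g = f := by
      rcases hmove g (Set.mem_insert_of_mem _ rfl) with h2 | h2
      · exact h2
      · have := hcinj g f (h2.trans h1.symm)
        rw [this, hfv] at hgv
        exact absurd hgv hv
    have hx2 : lin ρ (x * x) * f * lin ρ (x * x)⁻¹ = f := by
      rw [mul_inv_rev, map_mul, map_mul]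
      calc lin ρ x * lin ρ x * f * (lin ρ x⁻¹ * lin ρ x⁻¹) = c (c f) := by
            simp only [hc, mul_assoc]
        _ = f := by rw [h1, h2]
    obtain ⟨k, hk⟩ := (IsPGroup.iff_orderOf.1 S.2) ⟨x, hx⟩
    rw [Subgroup.orderOf_mk] at hk
    obtain ⟨m, hm⟩ := hodd.pow (n := k)
    have hxm : x = (x * x) ^ (m + 1) := by
      rw [← sq, ← pow_mul, show 2 * (m + 1) = q ^ k + 1 by omega, pow_succ, ← hk, pow_orderOf_eq_one,
        one_mul]
    have hpow : ∀ j : ℕ, lin ρ ((x * x) ^ j) * f * lin ρ ((x * x) ^ j)⁻¹ = f := by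
      intro j
      induction j with
      | zero => simp
      | succ j ih =>
        rw [pow_succ, mul_inv_rev, map_mul (lin ρ) ((x * x) ^ j) (x * x),
          map_mul (lin ρ) (x * x)⁻¹]
        calc lin ρ ((x * x) ^ j) * lin ρ (x * x) * f * (lin ρ (x * x)⁻¹ * lin ρ ((x * x) ^ j)⁻¹)
            = lin ρ ((x * x) ^ j) * (lin ρ (x * x) * f * lin ρ (x * x)⁻¹) * lin ρ ((x * x) ^ j)⁻¹ := by
              simp only [mul_assoc]
          _ = f := by rw [hx2, ih]
    have hcf : c f = f := by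
      have := hpow (m + 1)
      rwa [← hxm] at this
    rw [h1] at hcf
    rw [hcf, hfv] at hgv
    exact hv hgv
  intro T hT x hx
  obtain ⟨S', -, huniq⟩ := hQ v hv
  rw [huniq T hT, ← huniq S fun y hy => (key y hy).1] at hx
  exact (key x hx).2

/-- The algebra of a normal abelian subgroup has no torsion. -/
theorem torsionFree (hodd : Odd q) (hirr : ∀ W, Invariant ρ W → W = ⊥ ∨ W = ⊤)
    {A : Subgroup G} (hA : A.Normal) (hcomm : ∀ a ∈ A, ∀ b ∈ A, a * b = b * a) :
    ∀ e ∈ alg ρ A, ∀ v : V, v ≠ 0 → e v = 0 → e = 0 := by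
  classical
  set E := alg ρ A
  have hEc : ∀ a ∈ E, ∀ b ∈ E, a * b = b * a := by
    intro a ha b hb
    have := Algebra.isMulCommutative_adjoin (ZMod p) (s := lin ρ '' (A : Set G)) (by
      rintro _ ⟨a, ha, rfl⟩ _ ⟨b, hb, rfl⟩
      rw [← map_mul, ← map_mul, hcomm a ha b hb])
    exact congrArg Subtype.val (this.is_comm.comm ⟨a, ha⟩ ⟨b, hb⟩)
  have hEconj : ∀ x : G, ∀ a ∈ E, lin ρ x * a * lin ρ x⁻¹ ∈ E := by
    intro x a ha
    induction ha using Algebra.adjoin_induction with
    | mem y hy =>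
      obtain ⟨b, hb, rfl⟩ := hy
      rw [← map_mul, ← map_mul]
      exact lin_mem_alg (hA.conj_mem b hb x)
    | algebraMap r =>
      rw [← Algebra.commutes r (lin ρ x), mul_assoc, lin_mul_inv, mul_one]
      exact algebraMap_mem _ r
    | add y z _ _ hy hz => rw [mul_add, add_mul]; exact add_mem hy hz
    | mul y z _ _ hy hz =>
      have := mul_mem hy hz
      convert this using 1
      calc lin ρ x * (y * z) * lin ρ x⁻¹ = lin ρ x * y * 1 * z * lin ρ x⁻¹ := by
            simp only [mul_one, mul_assoc]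
        _ = _ := by rw [← lin_inv_mul (ρ := ρ) x]; simp only [mul_assoc]
  -- no nilpotent elements
  have hred : ∀ a ∈ E, IsNilpotent a → a = 0 := by
    let K : Submodule (ZMod p) V :=
      { carrier := {v | ∀ a ∈ E, IsNilpotent a → a v = 0}
        add_mem' := fun {v w} hv hw a ha hn => by rw [map_add, hv a ha hn, hw a ha hn, add_zero]
        zero_mem' := fun a _ _ => map_zero a
        smul_mem' := fun c v hv a ha hn => by rw [map_smul, hv a ha hn, smul_zero] }
    have hKinv : Invariant ρ K := by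
      intro x v hv a ha hn
      have h1 : (lin ρ x⁻¹ * a * lin ρ x) v = 0 := by
        have h2 := hEconj x⁻¹ a ha
        rw [inv_inv] at h2
        refine hv _ h2 ?_
        obtain ⟨k, hk⟩ := hn
        refine ⟨k, ?_⟩
        have e : ∀ j : ℕ, (lin ρ x⁻¹ * a * lin ρ x) ^ j = lin ρ x⁻¹ * a ^ j * lin ρ x := by
          intro j
          induction j with
          | zero => simp [lin_inv_mul]
          | succ j ih =>
            rw [pow_succ, ih, pow_succ]
            calc lin ρ x⁻¹ * a ^ j * lin ρ x * (lin ρ x⁻¹ * a * lin ρ x)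
                = lin ρ x⁻¹ * a ^ j * (lin ρ x * lin ρ x⁻¹) * a * lin ρ x := by simp only [mul_assoc]
              _ = _ := by rw [lin_mul_inv, mul_one]; simp only [mul_assoc]
        rw [e, hk, mul_zero, zero_mul]
      exact (ρ x⁻¹).map_eq_zero_iff.1 h1
    rcases hirr K hKinv with h | h
    · exfalso
      have hstep : ∀ F : Finset (Module.End (ZMod p) V), (∀ a ∈ F, a ∈ E ∧ IsNilpotent a) →
          ∃ v : V, v ≠ 0 ∧ ∀ a ∈ F, a v = 0 := by
        intro F
        induction F using Finset.induction with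
        | empty => exact fun _ => (exists_ne (0 : V)).elim fun v hv => ⟨v, hv, by simp⟩
        | insert a F _ ih =>
          intro hF
          obtain ⟨v, hv, hv'⟩ := ih fun b hb => hF b (Finset.mem_insert_of_mem hb)
          obtain ⟨haE, k, hk⟩ := hF a (Finset.mem_insert_self a F)
          have hex : ∃ j, (a ^ j) v = 0 := ⟨k, by rw [hk, LinearMap.zero_apply]⟩
          obtain ⟨j, hj⟩ : ∃ j, Nat.find hex = j + 1 := by
            refine ⟨Nat.find hex - 1, ?_⟩
            have : Nat.find hex ≠ 0 := fun e => hv (by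
              have := Nat.find_spec hex
              rwa [e, pow_zero, Module.End.one_apply] at this)
            omega
          refine ⟨(a ^ j) v, Nat.find_min hex (by omega), fun b hb => ?_⟩
          rw [← Module.End.mul_apply]
          rcases Finset.mem_insert.1 hb with rfl | hb'
          · rw [← pow_succ', ← hj]
            exact Nat.find_spec hex
          · rw [hEc b (hF b hb).1 _ (pow_mem haE j), Module.End.mul_apply, hv' b hb', map_zero]
      haveI := Fintype.ofFinite (Module.End (ZMod p) V)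
      obtain ⟨v, hv, hv'⟩ := hstep (Finset.univ.filter fun a => a ∈ E ∧ IsNilpotent a)
        fun a ha => (Finset.mem_filter.1 ha).2
      have : v ∈ K := fun a ha hn => hv' a (Finset.mem_filter.2 ⟨Finset.mem_univ _, ha, hn⟩)
      rw [h, Submodule.mem_bot] at this
      exact hv this
    · intro a ha hn
      exact LinearMap.ext fun v => (h ▸ Submodule.mem_top : v ∈ K) a ha hn
  intro e he v hv hev
  by_contra he0
  -- a proper idempotent
  obtain ⟨k, hk0, hk⟩ := exists_idem e
  have hf0 : e ^ k ≠ 0 := fun h => he0 (hred e he ⟨k, h⟩)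
  have hfv : (e ^ k) v = 0 := by
    obtain ⟨j, rfl⟩ : ∃ j, k = j + 1 := ⟨k - 1, by omega⟩
    rw [pow_succ, Module.End.mul_apply, hev, map_zero]
  -- the minimal idempotents
  let P : Set (Module.End (ZMod p) V) := {f | f ∈ E ∧ f * f = f ∧ f ≠ 0 ∧
    ∀ g ∈ E, g * g = g → g * f = f ∨ g * f = 0}
  have hbelow : ∀ f, f ∈ E → f * f = f → f ≠ 0 → ∃ g ∈ P, g * f = g := by
    intro f hfE hff hf
    induction hd : Module.finrank (ZMod p) (LinearMap.range f) using Nat.strong_induction_on
      generalizing f with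
    | _ d ih =>
    by_cases hmin : ∀ g ∈ E, g * g = g → g * f = f ∨ g * f = 0
    · exact ⟨f, ⟨hfE, hff, hf, hmin⟩, hff⟩
    push Not at hmin
    obtain ⟨g, hgE, hgg, hgf, hgf0⟩ := hmin
    have hidem : g * f * (g * f) = g * f := by
      rw [mul_assoc g f, ← mul_assoc f g, hEc f hfE g hgE, mul_assoc g f f, hff, ← mul_assoc g g, hgg]
    have hlt : LinearMap.range (g * f) < LinearMap.range f := by
      refine lt_of_le_of_ne ?_ fun h => hgf ?_
      · rw [hEc g hgE f hfE]
        exact LinearMap.range_comp_le_range _ _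
      · refine LinearMap.ext fun u => ?_
        obtain ⟨u', hu'⟩ : f u ∈ LinearMap.range (g * f) := h ▸ LinearMap.mem_range_self f u
        show g (f u) = f u
        rw [← hu', Module.End.mul_apply, ← Module.End.mul_apply g g, hgg]
    obtain ⟨g', hg', hg'eq⟩ := ih _ (hd ▸ Submodule.finrank_lt_finrank_of_lt hlt) _
      (mul_mem hgE hfE) hidem hgf0 rfl
    refine ⟨g', hg', ?_⟩
    rw [← hg'eq, mul_assoc, mul_assoc g f f, hff]
  have hPorth : ∀ f ∈ P, ∀ g ∈ P, f = g ∨ f * g = 0 := by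
    intro f hf g hg
    rcases hg.2.2.2 f hf.1 hf.2.1 with h | h
    · rcases hf.2.2.2 g hg.1 hg.2.1 with h' | h'
      · left; rw [← h', hEc g hg.1 f hf.1, h]
      · right; rw [hEc f hf.1 g hg.1, h']
    · exact Or.inr h
  have hPconj : ∀ x : G, ∀ f ∈ P, lin ρ x * f * lin ρ x⁻¹ ∈ P := by
    intro x f ⟨hfE, hff, hf, hmin⟩
    have hcm : ∀ a b : Module.End (ZMod p) V, (lin ρ x * a * lin ρ x⁻¹) * (lin ρ x * b * lin ρ x⁻¹)
        = lin ρ x * (a * b) * lin ρ x⁻¹ := fun a b => by
      calc (lin ρ x * a * lin ρ x⁻¹) * (lin ρ x * b * lin ρ x⁻¹)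
          = lin ρ x * a * (lin ρ x⁻¹ * lin ρ x) * b * lin ρ x⁻¹ := by simp only [mul_assoc]
        _ = _ := by rw [lin_inv_mul, mul_one]; simp only [mul_assoc]
    refine ⟨hEconj x f hfE, by rw [hcm, hff], fun h => hf ?_, fun g hg hgg => ?_⟩
    · have := congrArg (fun z => lin ρ x⁻¹ * z * lin ρ x) h
      simpa [mul_assoc, lin_inv_mul, ← mul_assoc (lin ρ x⁻¹) (lin ρ x)] using this
    · set g' := lin ρ x⁻¹ * g * lin ρ x with hg'
      have hg'E : g' ∈ E := by
        have := hEconj x⁻¹ g hg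
        rwa [inv_inv] at this
      have hgeq : lin ρ x * g' * lin ρ x⁻¹ = g := by
        rw [hg']
        calc lin ρ x * (lin ρ x⁻¹ * g * lin ρ x) * lin ρ x⁻¹
            = (lin ρ x * lin ρ x⁻¹) * g * (lin ρ x * lin ρ x⁻¹) := by simp only [mul_assoc]
          _ = g := by rw [lin_mul_inv, one_mul, mul_one]
      have hg'g' : g' * g' = g' := by
        rw [hg']
        calc lin ρ x⁻¹ * g * lin ρ x * (lin ρ x⁻¹ * g * lin ρ x)
            = lin ρ x⁻¹ * g * (lin ρ x * lin ρ x⁻¹) * g * lin ρ x := by simp only [mul_assoc]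
          _ = lin ρ x⁻¹ * (g * g) * lin ρ x := by rw [lin_mul_inv, mul_one]; simp only [mul_assoc]
          _ = _ := by rw [hgg]
      rcases hmin g' hg'E hg'g' with h | h
      · left; rw [← hgeq, hcm, h]
      · right; rw [← hgeq, hcm, h, mul_zero, zero_mul]
  have hcompl : ∀ f : Module.End (ZMod p) V, f * f = f → (1 - f) * (1 - f) = 1 - f := fun f hf => by
    rw [sub_mul, one_mul, mul_sub, mul_one, hf, sub_self, sub_zero]
  have hkk : e ^ k * e ^ k = e ^ k := hk
  obtain ⟨f₁, hf₁, hf₁e⟩ := hbelow _ (pow_mem he k) hkk hf0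
  obtain ⟨f₂, hf₂, hf₂e⟩ := hbelow (1 - e ^ k) (sub_mem (one_mem E) (pow_mem he k))
    (hcompl _ hkk) fun h => hv (by
      have := congrArg (fun z : Module.End (ZMod p) V => z v) (sub_eq_zero.1 h)
      simpa [hfv] using this)
  have h12 : f₁ ≠ f₂ := by
    intro h
    apply hf₁.2.2.1
    have h1 : f₁ * (1 - e ^ k) = f₁ := h ▸ hf₂e
    rwa [mul_sub, mul_one, hf₁e, sub_self, eq_comm] at h1
  have hmoved : ∀ f ∈ P, ∃ v : V, f v = v ∧ v ≠ 0 := by
    intro f hf
    obtain ⟨u, hu⟩ : ∃ u, f u ≠ 0 := by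
      by_contra hc
      push Not at hc
      exact hf.2.2.1 (LinearMap.ext hc)
    exact ⟨f u, by rw [← Module.End.mul_apply, hf.2.1], hu⟩
  obtain ⟨v₁, hv₁, hv₁0⟩ := hmoved f₁ hf₁
  obtain ⟨S, hS, -⟩ := hQ v₁ hv₁0
  have hsame : ∀ f ∈ P, ∀ g ∈ P, f ≠ g → ∀ v w : V, f v = v → g w = w → v ≠ 0 → w ≠ 0 →
      (∀ x ∈ S, ρ x v = v) → ∀ x ∈ S, ρ x w = w := by
    intro f hf g hg hfg v w hfv hgw hv0 hw0 hvS
    refine same_sylow hQ hodd ((hPorth f hf g hg).resolve_left hfg)
      ((hPorth g hg f hf).resolve_left fun h => hfg h.symm) ?_ hf.2.1 hg.2.1 hfv hgw hv0 hw0 S hvS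
    intro x a ha b hb
    have haP : a ∈ P := by rcases ha with rfl | rfl <;> assumption
    have hbP : b ∈ P := by rcases hb with rfl | rfl <;> assumption
    rcases hPorth _ (hPconj x a haP) b hbP with h | h
    · exact Or.inl h
    · exact Or.inr ⟨by rw [hEc b hbP.1 _ (hPconj x a haP).1]; exact h, h⟩
  -- the Sylow subgroup fixes every block
  have hblock : ∀ f ∈ P, ∀ u : V, ∀ x ∈ S, ρ x (f u) = f u := by
    intro f hf u
    by_cases hu : f u = 0
    · intro x _; rw [hu, map_zero]
    have hfu : f (f u) = f u := by rw [← Module.End.mul_apply, hf.2.1]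
    rcases ne_or_eq f f₁ with hne | rfl
    · exact hsame f₁ hf₁ f hf hne.symm v₁ _ hv₁ hfu hv₁0 hu hS
    · obtain ⟨v₂, hv₂, hv₂0⟩ := hmoved f₂ hf₂
      exact hsame f₂ hf₂ f hf h12.symm v₂ _ hv₂ hfu hv₂0 hu
        (hsame f hf f₂ hf₂ h12 v₁ v₂ hv₁ hv₂ hv₁0 hv₂0 hS)
  haveI := Fintype.ofFinite (Module.End (ZMod p) V)
  set s : Finset (Module.End (ZMod p) V) := Finset.univ.filter fun f => f ∈ P with hs
  have hsP : ∀ f, f ∈ s ↔ f ∈ P := fun f => by simp [hs]
  set F := ∑ f ∈ s, f with hF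
  have hFE : F ∈ E := sum_mem fun f hf => ((hsP f).1 hf).1
  have hgF : ∀ g ∈ P, g * F = g := by
    intro g hg
    rw [hF, Finset.mul_sum, Finset.sum_eq_single g
      (fun f hf hne => (hPorth g hg f ((hsP f).1 hf)).resolve_left fun h => hne h.symm)
      (fun h => absurd ((hsP g).2 hg) h), hg.2.1]
  have hFF : F * F = F := by
    conv_lhs => rw [hF, Finset.sum_mul]
    exact Finset.sum_congr rfl fun g hg => hgF g ((hsP g).1 hg)
  have hF1 : F = 1 := by
    by_contra hne
    obtain ⟨g, hg, hge⟩ := hbelow (1 - F) (sub_mem (one_mem E) hFE) (hcompl F hFF)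
      fun h => hne (sub_eq_zero.1 h).symm
    apply hg.2.2.1
    rw [mul_sub, mul_one, hgF g hg, sub_self] at hge
    exact hge.symm
  obtain ⟨u, x, hx, hxu⟩ := exists_moved_vector hinj hqG S
  refine hxu ?_
  have hu : u = ∑ f ∈ s, f u := by
    rw [← LinearMap.sum_apply, ← hF, hF1, Module.End.one_apply]
  rw [hu, map_sum]
  exact Finset.sum_congr rfl fun f hf => hblock f ((hsP f).1 hf) u x hx

/-- The primes with spread fixed points do not divide a normal abelian subgroup. -/
theorem not_dvd_of_torsionFree {A : Subgroup G} (hS : Setting ρ A) : ¬ q ∣ Nat.card A := by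
  intro hd
  obtain ⟨a, ha⟩ := exists_prime_orderOf_dvd_card' (G := A) q hd
  let K : Subgroup G :=
    { carrier := {x | x ∈ A ∧ x ^ q = 1}
      one_mem' := ⟨one_mem A, one_pow q⟩
      mul_mem' := fun {x y} hx hy => ⟨mul_mem hx.1 hy.1, by
        rw [(show Commute x y from hS.comm x hx.1 y hy.1).mul_pow, hx.2, hy.2, one_mul]⟩
      inv_mem' := fun {x} hx => ⟨inv_mem hx.1, by rw [inv_pow, hx.2, inv_one]⟩ }
  have hKn : K.Normal := ⟨fun x hx g => ⟨hS.normal.conj_mem x hx.1 g, by
    rw [conj_pow, hx.2, mul_one, mul_inv_cancel]⟩⟩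
  have hKp : IsPGroup q K := fun x => ⟨1, Subtype.ext (by rw [pow_one]; exact x.2.2)⟩
  obtain ⟨S, hKS⟩ := hKp.exists_le_sylow
  obtain ⟨v, hv, hvS⟩ := exists_fixed hinj hqG hQ S
  have haK : (a : G) ∈ K := ⟨a.2, by rw [← ha]; exact congrArg Subtype.val (pow_orderOf_eq_one a)⟩
  have h0 : lin ρ (a : G) - 1 = 0 := by
    refine hS.torsionFree _ (sub_mem (lin_mem_alg a.2) (one_mem _)) v hv ?_
    rw [LinearMap.sub_apply, lin_apply, hvS _ (hKS haK), Module.End.one_apply, sub_self]
  have hbad : (a : G) = 1 := lin_injective hS (by rw [map_one]; exact sub_eq_zero.1 h0)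
  rw [show a = 1 from Subtype.ext hbad, orderOf_one] at ha
  exact (Fact.out : q.Prime).one_lt.ne ha

end Cfsg.Agent.BC86.Palfy
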